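import Mathlib
import Cfsg.Agent.StdG24.AutA5
set_option linter.all false

/-!
# Automorphisms of `L = G₂(4)` from its 5-structure

`As`, `Al` are commuting subgroups isomorphic to `A₅`, `u ∈ As`, `w ∈ Al` have order 5, `C(w) = ⟨w⟩ × As`,
`C(u) = ⟨u⟩ × Al`, `n` normalizes `⟨u, w⟩`. Results: an automorphism fixing `w` (or `u`) is inner, the square
of every automorphism is inner, the product of two non-inner ones is inner, an automorphism fixing a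
four-group of `Al` is inner.
-/

set_option autoImplicit false

namespace Cfsg.Agent.StdG24.AutL

open Subgroup Cfsg.Agent.StdG24.AutA5
open scoped commutatorElement

structure El (L : Type*) [Group L] where
  u : L
  w : L
  i₁ : L
  i₂ : L
  n : L
  As : Subgroup L
  Al : Subgroup L

structure Ax {L : Type*} [Group L] (E : El L) : Prop where
  eAs : Nonempty (E.As ≃* alternatingGroup (Fin 5))
  eAl : Nonempty (E.Al ≃* alternatingGroup (Fin 5))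
  comm : ∀ x ∈ E.As, ∀ y ∈ E.Al, x * y = y * x
  uAs : E.u ∈ E.As
  u1 : E.u ≠ 1
  u5 : E.u ^ 5 = 1
  wAl : E.w ∈ E.Al
  w1 : E.w ≠ 1
  w5 : E.w ^ 5 = 1
  i₁As : E.i₁ ∈ E.As
  i₁1 : E.i₁ ≠ 1
  i₁i₁ : E.i₁ * E.i₁ = 1
  i₁u : E.i₁ * E.u * E.i₁ = E.u⁻¹
  i₂Al : E.i₂ ∈ E.Al
  i₂1 : E.i₂ ≠ 1
  i₂i₂ : E.i₂ * E.i₂ = 1
  i₂w : E.i₂ * E.w * E.i₂ = E.w⁻¹
  cw : ∀ x, x * E.w = E.w * x → ∃ i : ℕ, ∃ c ∈ E.As, x = E.w ^ i * c
  cu : ∀ x, x * E.u = E.u * x → ∃ i : ℕ, ∃ c ∈ E.Al, x = E.u ^ i * c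
  ni : E.n * (E.i₁ * E.i₂) = E.i₁ * E.i₂ * E.n
  nw : E.n * E.w * E.n⁻¹ = E.w ^ 2 * E.u ^ 2
  nu : E.n * E.u * E.n⁻¹ = E.w ^ 4 * E.u ^ 2
  gen : closure ((E.As : Set L) ∪ E.Al ∪ {E.n}) = ⊤
  sep : ∀ (α : MulAut L) (g : L) (k : ℕ), α E.w ≠ g * E.u ^ k * g⁻¹
  five : ∀ x : L, x ^ 5 = 1 → ∃ (g : L) (k : ℕ), g * x * g⁻¹ = E.u ^ k ∨ g * x * g⁻¹ = E.w ^ k
  card : Nat.card L = 251596800

/-- restriction of an automorphism to an invariant subgroup -/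
def res {L : Type*} [Group L] (α : MulAut L) (H : Subgroup L) (h : ∀ x, x ∈ H ↔ α x ∈ H) :
    MulAut H where
  toFun x := ⟨α x, (h x).1 x.2⟩
  invFun x := ⟨α.symm x, (h _).2 (by rw [MulEquiv.apply_symm_apply]; exact x.2)⟩
  left_inv x := Subtype.ext (α.symm_apply_apply x)
  right_inv x := Subtype.ext (α.apply_symm_apply x)
  map_mul' x y := Subtype.ext (map_mul α (x : L) y)

theorem coe_res {L : Type*} [Group L] (α : MulAut L) (H : Subgroup L) (h : ∀ x, x ∈ H ↔ α x ∈ H)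
    (x : H) : ((res α H h x : H) : L) = α x := rfl

/-- a group isomorphic to `A₅` is perfect -/
theorem comm_top {A : Type*} [Group A] (e : A ≃* alternatingGroup (Fin 5)) : commutator A = ⊤ := by
  have h5 : IsSimpleGroup (alternatingGroup (Fin 5)) := alternatingGroup.isSimpleGroup (by simp)
  have hs : IsSimpleGroup A := e.isSimpleGroup
  rcases (inferInstance : (commutator A).Normal).eq_bot_or_eq_top with h | h
  · exfalso
    obtain ⟨hu, hu5, hi, hii, hiu, hsi, hsu, -⟩ := gcd_facts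
    have hab : ∀ x y : A, x * y = y * x := by
      intro x y
      have : ⁅x, y⁆ ∈ commutator A := subset_closure ⟨x, mem_top x, y, mem_top y, rfl⟩
      rw [h, mem_bot, commutatorElement_eq_one_iff_mul_comm] at this
      exact this
    obtain ⟨x, hx⟩ := exists_emb e 1 i0 hsi
    obtain ⟨y, hy⟩ := exists_emb e 1 u0 hsu
    have h1 := congrArg (emb e 1) (hab x y)
    rw [map_mul, map_mul, hx, hy] at h1
    have h2 : i0 * u0 * i0 = u0 := by rw [h1, mul_assoc, hii, mul_one]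
    rw [hiu] at h2
    exact absurd h2 (by decide)
  · exact h

/-- a perfect factor `B` of the centralizer `⟨w⟩ × B` of `w` is invariant under automorphisms
normalizing `⟨w⟩` -/
theorem map_gen {L : Type*} [Group L] {w : L} {B : Subgroup L} (comm : ∀ c ∈ B, c * w = w * c)
    (cw : ∀ x, x * w = w * x → ∃ i : ℕ, ∃ c ∈ B, x = w ^ i * c) (hp : commutator B = ⊤)
    (α : MulAut L) {k m : ℕ} (hα : α w = w ^ k) (hkm : (w ^ k) ^ m = w) {c : L} (hc : c ∈ B) :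
    α c ∈ B := by
  have hcw : ∀ c ∈ B, α c * w = w * α c := by
    intro c hc
    have h1 := congrArg α (comm c hc)
    rw [map_mul, map_mul, hα] at h1
    have h2 : Commute (α c) (w ^ k) := h1
    have h3 := h2.pow_right m
    rwa [hkm] at h3
  have hle : commutator B ≤ (B.comap α.toMonoidHom).subgroupOf B := by
    rw [commutator_def, commutator_le]
    intro x _ y _
    rw [mem_subgroupOf, mem_comap]
    obtain ⟨i, c, hc, h1⟩ := cw _ (hcw x x.2)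
    obtain ⟨j, d, hd, h2⟩ := cw _ (hcw y y.2)
    have h3 : α ((⁅x, y⁆ : B) : L) = ⁅c, d⁆ := by
      have e1 : ((⁅x, y⁆ : B) : L) = ⁅(x : L), (y : L)⁆ := rfl
      rw [e1, map_commutatorElement, h1, h2]
      have c1 : Commute (w ^ i) c := (show Commute w c from (comm c hc).symm).pow_left i
      have c2 : Commute (w ^ i) d := (show Commute w d from (comm d hd).symm).pow_left i
      have c3 : Commute (w ^ j) c := (show Commute w c from (comm c hc).symm).pow_left j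
      have c4 : Commute (w ^ j) d := (show Commute w d from (comm d hd).symm).pow_left j
      have c5 : Commute (w ^ i) (w ^ j) := (Commute.refl w).pow_pow i j
      rw [commutatorElement_def, commutatorElement_def, mul_inv_rev, mul_inv_rev]
      calc w ^ i * c * (w ^ j * d) * (c⁻¹ * (w ^ i)⁻¹) * (d⁻¹ * (w ^ j)⁻¹)
          = w ^ i * (c * w ^ j) * d * c⁻¹ * ((w ^ i)⁻¹ * d⁻¹) * (w ^ j)⁻¹ := by group
        _ = w ^ i * (w ^ j * c) * d * c⁻¹ * (d⁻¹ * (w ^ i)⁻¹) * (w ^ j)⁻¹ := by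
            rw [c3.eq, (c2.inv_inv).eq]
        _ = (w ^ i * w ^ j) * (c * d * c⁻¹ * d⁻¹) * ((w ^ i)⁻¹ * (w ^ j)⁻¹) := by group
        _ = (c * d * c⁻¹ * d⁻¹) * (w ^ i * w ^ j) * ((w ^ i)⁻¹ * (w ^ j)⁻¹) := by
            have hc' : Commute (w ^ i * w ^ j) (c * d * c⁻¹ * d⁻¹) :=
              Commute.mul_left (((c1.mul_right c2).mul_right c1.inv_right).mul_right c2.inv_right)
                (((c3.mul_right c4).mul_right c3.inv_right).mul_right c4.inv_right)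
            rw [hc'.eq]
        _ = (c * d * c⁻¹ * d⁻¹) * (w ^ j * w ^ i) * ((w ^ i)⁻¹ * (w ^ j)⁻¹) := by rw [c5.eq]
        _ = c * d * c⁻¹ * d⁻¹ := by group
    show α ((⁅x, y⁆ : B) : L) ∈ B
    rw [h3, commutatorElement_def]
    exact mul_mem (mul_mem (mul_mem hc hd) (inv_mem hc)) (inv_mem hd)
  rw [hp] at hle
  exact mem_subgroupOf.1 (hle (mem_top (⟨c, hc⟩ : B)))

/-- Frattini argument for automorphisms -/
theorem frattini {L : Type*} [Group L] [Finite L] (p : ℕ) [Fact p.Prime] (C : Subgroup L)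
    (α : MulAut L) (hC : ∀ x, x ∈ C ↔ α x ∈ C) (P : Sylow p C) :
    ∃ c ∈ C, ∀ x : C, x ∈ P → ∃ y : C, y ∈ P ∧ (y : L) = c * α x * c⁻¹ := by
  obtain ⟨c, hc⟩ := MulAction.exists_smul_eq C ((res α C hC) • P) P
  refine ⟨c, c.2, fun x hx => ?_⟩
  have h1 : (res α C hC) x ∈ ((res α C hC) • P : Sylow p C) := by
    show (res α C hC) x ∈ (((res α C hC) • P : Sylow p C) : Subgroup C)
    rw [Sylow.pointwise_smul_def]
    exact Subgroup.smul_mem_pointwise_smul x (res α C hC) _ hx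
  have h2 : c * (res α C hC x) * c⁻¹ ∈ (c • ((res α C hC) • P) : Sylow p C) := by
    rw [← SetLike.mem_coe, Sylow.coe_smul]
    exact Set.smul_mem_smul_set h1
  rw [hc] at h2
  exact ⟨_, h2, rfl⟩

/-- the action of `n` on the exponents of `w ^ a * u ^ b` -/
def T (p : ℕ × ℕ) : ℕ × ℕ := ((2 * p.1 + 4 * p.2) % 5, (2 * p.1 + 2 * p.2) % 5)

theorem T_types : ∀ k ∈ List.range 5, ∀ m ∈ List.range 5, k ≠ 0 → m ≠ 0 → m = k ∨ m + k = 5 ∨
    ∃ i ∈ List.range 3, ∃ j ∈ List.range 5, T^[i] (0, j) = (k, m) := by decide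

variable {L : Type*} [Group L] {E : El L}

namespace Ax

variable (A : Ax E)
include A

theorem uw : E.u * E.w = E.w * E.u := A.comm _ A.uAs _ A.wAl

theorem commuw : Commute E.u E.w := A.uw

theorem i₁w : E.i₁ * E.w = E.w * E.i₁ := A.comm _ A.i₁As _ A.wAl

theorem i₂u : E.i₂ * E.u = E.u * E.i₂ := (A.comm _ A.uAs _ A.i₂Al).symm

theorem i₁i₂ : E.i₁ * E.i₂ = E.i₂ * E.i₁ := A.comm _ A.i₁As _ A.i₂Al

theorem i₁inv : E.i₁⁻¹ = E.i₁ := inv_eq_of_mul_eq_one_left A.i₁i₁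

theorem i₂inv : E.i₂⁻¹ = E.i₂ := inv_eq_of_mul_eq_one_left A.i₂i₂

theorem inter {x : L} (h1 : x ∈ E.As) (h2 : x ∈ E.Al) : x = 1 := by
  obtain ⟨e⟩ := A.eAs
  have h5 : IsSimpleGroup (alternatingGroup (Fin 5)) := alternatingGroup.isSimpleGroup (by simp)
  have hs : IsSimpleGroup E.As := e.isSimpleGroup
  have hc : (⟨x, h1⟩ : E.As) ∈ center E.As := by
    rw [mem_center_iff]
    intro g
    exact Subtype.ext (A.comm g g.2 x h2)
  rcases (inferInstance : (center E.As).Normal).eq_bot_or_eq_top with h | h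
  · rw [h, mem_bot] at hc
    exact congrArg Subtype.val hc
  · exfalso
    have h3 : (⟨E.u, A.uAs⟩ : E.As) ∈ center E.As := by rw [h]; trivial
    have h4 := congrArg Subtype.val (mem_center_iff.1 h3 ⟨E.i₁, A.i₁As⟩)
    have h5 : E.i₁ * E.u = E.u * E.i₁ := h4
    have h6 := A.i₁u
    rw [h5, mul_assoc, A.i₁i₁, mul_one] at h6
    have h7 : E.u ^ 2 = 1 := by rw [sq]; nth_rewrite 2 [h6]; exact mul_inv_cancel _
    apply A.u1
    calc E.u = E.u ^ 5 * ((E.u ^ 2) ^ 2)⁻¹ := by group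
      _ = 1 := by rw [A.u5, h7]; simp

theorem cAs {c : L} (hc : c ∈ E.As) (h : c * E.u = E.u * c) : ∃ k : ℕ, c = E.u ^ k := by
  obtain ⟨e⟩ := A.eAs
  obtain ⟨k, hk⟩ := cent_five e (u := ⟨E.u, A.uAs⟩) (fun h => A.u1 (congrArg Subtype.val h))
    (Subtype.ext A.u5) (x := ⟨c, hc⟩) (Subtype.ext h)
  exact ⟨k, congrArg Subtype.val hk⟩

theorem cAl {c : L} (hc : c ∈ E.Al) (h : c * E.w = E.w * c) : ∃ k : ℕ, c = E.w ^ k := by
  obtain ⟨e⟩ := A.eAl
  obtain ⟨k, hk⟩ := cent_five e (u := ⟨E.w, A.wAl⟩) (fun h => A.w1 (congrArg Subtype.val h))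
    (Subtype.ext A.w5) (x := ⟨c, hc⟩) (Subtype.ext h)
  exact ⟨k, congrArg Subtype.val hk⟩

theorem cuw {x : L} (h1 : x * E.w = E.w * x) (h2 : x * E.u = E.u * x) :
    ∃ i k : ℕ, x = E.w ^ i * E.u ^ k := by
  obtain ⟨i, c, hc, rfl⟩ := A.cw x h1
  have h3 : E.u * E.w ^ i = E.w ^ i * E.u := (A.commuw.pow_right i)
  have h4 : c * E.u = E.u * c := by
    rw [mul_assoc, ← mul_assoc E.u, h3, mul_assoc] at h2
    exact mul_left_cancel h2
  obtain ⟨k, rfl⟩ := A.cAs hc h4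
  exact ⟨i, k, rfl⟩

theorem map_As (α : MulAut L) {k m : ℕ} (hα : α E.w = E.w ^ k) (hkm : (E.w ^ k) ^ m = E.w) {c : L}
    (hc : c ∈ E.As) : α c ∈ E.As := by
  obtain ⟨e⟩ := A.eAs
  exact map_gen (fun c hc => A.comm c hc _ A.wAl) A.cw (comm_top e) α hα hkm hc

theorem map_Al (α : MulAut L) {k m : ℕ} (hα : α E.u = E.u ^ k) (hkm : (E.u ^ k) ^ m = E.u) {c : L}
    (hc : c ∈ E.Al) : α c ∈ E.Al := by
  obtain ⟨e⟩ := A.eAl
  exact map_gen (fun c hc => (A.comm _ A.uAs c hc).symm) A.cu (comm_top e) α hα hkm hc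

theorem qmul (a b c d : ℕ) : E.w ^ a * E.u ^ b * (E.w ^ c * E.u ^ d) = E.w ^ (a + c) * E.u ^ (b + d) := by
  have h : Commute (E.u ^ b) (E.w ^ c) := A.commuw.pow_pow b c
  rw [pow_add, pow_add]
  calc E.w ^ a * E.u ^ b * (E.w ^ c * E.u ^ d) = E.w ^ a * (E.u ^ b * E.w ^ c) * E.u ^ d := by group
    _ = E.w ^ a * (E.w ^ c * E.u ^ b) * E.u ^ d := by rw [h.eq]
    _ = _ := by group

theorem qpow (a b k : ℕ) : (E.w ^ a * E.u ^ b) ^ k = E.w ^ (a * k) * E.u ^ (b * k) := by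
  have h : Commute (E.w ^ a) (E.u ^ b) := (A.commuw.pow_pow b a).symm
  rw [h.mul_pow, pow_mul, pow_mul]

theorem qmod (a b : ℕ) : E.w ^ a * E.u ^ b = E.w ^ (a % 5) * E.u ^ (b % 5) := by
  rw [← pow_eq_pow_mod a A.w5, ← pow_eq_pow_mod b A.u5]

theorem nq (p : ℕ × ℕ) : E.n * (E.w ^ p.1 * E.u ^ p.2) * E.n⁻¹ = E.w ^ (T p).1 * E.u ^ (T p).2 := by
  have h1 : E.n * (E.w ^ p.1 * E.u ^ p.2) * E.n⁻¹
      = (E.n * E.w * E.n⁻¹) ^ p.1 * (E.n * E.u * E.n⁻¹) ^ p.2 := by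
    rw [conj_pow, conj_pow]; group
  rw [h1, A.nw, A.nu, A.qpow, A.qpow, A.qmul]
  exact A.qmod _ _

theorem nqi (i : ℕ) (p : ℕ × ℕ) :
    E.n ^ i * (E.w ^ p.1 * E.u ^ p.2) * (E.n ^ i)⁻¹ = E.w ^ (T^[i] p).1 * E.u ^ (T^[i] p).2 := by
  induction i generalizing p with
  | zero => simp
  | succ i ih =>
    rw [Function.iterate_succ_apply, ← ih (T p), ← A.nq, pow_succ]
    group

/-- no conjugate of a nontrivial power of `w` is a power of `u` -/
theorem sep' {k : ℕ} (hk : E.w ^ k ≠ 1) (g : L) (j : ℕ) : E.w ^ k ≠ g * E.u ^ j * g⁻¹ := by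
  intro h
  have h1 : ∀ m : ℕ, E.w ^ (k * m) = g * E.u ^ (j * m) * g⁻¹ := by
    intro m
    rw [pow_mul, h, pow_mul, conj_pow]
  rw [pow_eq_pow_mod k A.w5] at hk
  have h2 : k % 5 < 5 := Nat.mod_lt _ (by norm_num)
  have h3 : k % 5 ≠ 0 := fun h0 => hk (by rw [h0, pow_zero])
  have h4 : ∃ m, (k * m) % 5 = 1 := by
    have h5 : ∀ r < 5, r ≠ 0 → ∃ m < 5, (r * m) % 5 = 1 := by decide
    obtain ⟨m, -, hm⟩ := h5 _ h2 h3
    exact ⟨m, by rw [← hm]; simp [Nat.mul_mod]⟩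
  obtain ⟨m, hm⟩ := h4
  have h6 := h1 m
  rw [pow_eq_pow_mod (k * m) A.w5, hm, pow_one] at h6
  exact A.sep 1 g (j * m) h6

/-- G1: an automorphism fixing `w` and `u` is conjugation by an element of `⟨w, u⟩` -/
theorem aut_uw (α : MulAut L) (hw : α E.w = E.w) (hu : α E.u = E.u) :
    ∃ i k : ℕ, ∀ x, α x = (E.w ^ i * E.u ^ k) * x * (E.w ^ i * E.u ^ k)⁻¹ := by
  have hAs : ∀ (α : MulAut L), α E.w = E.w → ∀ c ∈ E.As, α c ∈ E.As := fun α hw c hc =>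
    A.map_As α (k := 1) (m := 1) (by rw [pow_one, hw]) (by simp) hc
  have hAl : ∀ (α : MulAut L), α E.u = E.u → ∀ c ∈ E.Al, α c ∈ E.Al := fun α hw c hc =>
    A.map_Al α (k := 1) (m := 1) (by rw [pow_one, hw]) (by simp) hc
  have hws : α⁻¹ E.w = E.w := by
    rw [MulAut.inv_apply]; nth_rewrite 1 [← hw]; exact α.symm_apply_apply _
  have hus : α⁻¹ E.u = E.u := by
    rw [MulAut.inv_apply]; nth_rewrite 1 [← hu]; exact α.symm_apply_apply _
  have rAs : ∀ x, x ∈ E.As ↔ α x ∈ E.As := fun x =>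
    ⟨hAs α hw x, fun h => by
      have := hAs α⁻¹ hws _ h
      rwa [MulAut.inv_apply_self] at this⟩
  have rAl : ∀ x, x ∈ E.Al ↔ α x ∈ E.Al := fun x =>
    ⟨hAl α hu x, fun h => by
      have := hAl α⁻¹ hus _ h
      rwa [MulAut.inv_apply_self] at this⟩
  obtain ⟨es⟩ := A.eAs
  obtain ⟨el⟩ := A.eAl
  obtain ⟨k, hk⟩ := conj_of_fix es (res α E.As rAs) (u := ⟨E.u, A.uAs⟩)
    (fun h => A.u1 (congrArg Subtype.val h)) (Subtype.ext A.u5) (Subtype.ext hu)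
  obtain ⟨i, hi⟩ := conj_of_fix el (res α E.Al rAl) (u := ⟨E.w, A.wAl⟩)
    (fun h => A.w1 (congrArg Subtype.val h)) (Subtype.ext A.w5) (Subtype.ext hw)
  have hk' : ∀ x ∈ E.As, α x = E.u ^ k * x * (E.u ^ k)⁻¹ := fun x hx =>
    congrArg Subtype.val (hk ⟨x, hx⟩)
  have hi' : ∀ x ∈ E.Al, α x = E.w ^ i * x * (E.w ^ i)⁻¹ := fun x hx =>
    congrArg Subtype.val (hi ⟨x, hx⟩)
  set g := E.w ^ i * E.u ^ k with hg
  have hgc : g = E.u ^ k * E.w ^ i := (A.commuw.pow_pow k i).symm.eq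
  set β : MulAut L := MulAut.conj g⁻¹ * α with hβ
  have hβx : ∀ x, β x = g⁻¹ * α x * g := by
    intro x
    show g⁻¹ * α x * g⁻¹⁻¹ = _
    rw [inv_inv]
  have b1 : ∀ x ∈ E.As, β x = x := by
    intro x hx
    have h1 : Commute (E.w ^ i) x := (show Commute E.w x from (A.comm x hx _ A.wAl).symm).pow_left i
    rw [hβx, hk' x hx, hg]
    have h2 : E.w ^ i * x * (E.w ^ i)⁻¹ = x := by rw [h1.eq]; group
    have : E.u ^ k * x * (E.u ^ k)⁻¹ = E.w ^ i * E.u ^ k * x * (E.w ^ i * E.u ^ k)⁻¹ := by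
      rw [(A.commuw.pow_pow k i).symm.eq]
      calc E.u ^ k * x * (E.u ^ k)⁻¹ = E.u ^ k * (E.w ^ i * x * (E.w ^ i)⁻¹) * (E.u ^ k)⁻¹ := by rw [h2]
        _ = _ := by group
    rw [this]; group
  have b2 : ∀ x ∈ E.Al, β x = x := by
    intro x hx
    have h1 : Commute (E.u ^ k) x := (show Commute E.u x from A.comm _ A.uAs x hx).pow_left k
    rw [hβx, hi' x hx, hg]
    have h2 : E.u ^ k * x * (E.u ^ k)⁻¹ = x := by rw [h1.eq]; group
    have : E.w ^ i * x * (E.w ^ i)⁻¹ = E.w ^ i * E.u ^ k * x * (E.w ^ i * E.u ^ k)⁻¹ := by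
      calc E.w ^ i * x * (E.w ^ i)⁻¹ = E.w ^ i * (E.u ^ k * x * (E.u ^ k)⁻¹) * (E.w ^ i)⁻¹ := by rw [h2]
        _ = _ := by group
    rw [this]; group
  have bw : β E.w = E.w := b2 _ A.wAl
  have bu : β E.u = E.u := b1 _ A.uAs
  -- `n⁻¹ β(n)` commutes with `w`, `u`
  have c1 : E.n⁻¹ * β E.n * E.w = E.w * (E.n⁻¹ * β E.n) := by
    have h1 := congrArg β A.nw
    rw [map_mul, map_mul, map_inv, map_mul, map_pow, map_pow, bw, bu, ← A.nw] at h1
    calc E.n⁻¹ * β E.n * E.w = E.n⁻¹ * (β E.n * E.w * (β E.n)⁻¹) * β E.n := by group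
      _ = E.n⁻¹ * (E.n * E.w * E.n⁻¹) * β E.n := by rw [h1]
      _ = _ := by group
  have c2 : E.n⁻¹ * β E.n * E.u = E.u * (E.n⁻¹ * β E.n) := by
    have h1 := congrArg β A.nu
    rw [map_mul, map_mul, map_inv, map_mul, map_pow, map_pow, bw, bu, ← A.nu] at h1
    calc E.n⁻¹ * β E.n * E.u = E.n⁻¹ * (β E.n * E.u * (β E.n)⁻¹) * β E.n := by group
      _ = E.n⁻¹ * (E.n * E.u * E.n⁻¹) * β E.n := by rw [h1]
      _ = _ := by group
  obtain ⟨a, b, hab⟩ := A.cuw c1 c2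
  set I := E.i₁ * E.i₂ with hI
  have hII : I * I = 1 := by
    rw [hI]
    calc E.i₁ * E.i₂ * (E.i₁ * E.i₂) = E.i₁ * E.i₂ * (E.i₂ * E.i₁) := by rw [A.i₁i₂]
      _ = E.i₁ * (E.i₂ * E.i₂) * E.i₁ := by group
      _ = 1 := by rw [A.i₂i₂, mul_one, A.i₁i₁]
  have bI : β I = I := by rw [hI, map_mul, b1 _ A.i₁As, b2 _ A.i₂Al]
  have c3 : β E.n * I = I * β E.n := by
    have h0 : E.n * I = I * E.n := A.ni
    have h1 := congrArg β h0
    rwa [map_mul β E.n I, map_mul β I E.n, bI] at h1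
  have c4 : E.n⁻¹ * I = I * E.n⁻¹ := by
    have h1 : Commute E.n I := A.ni
    exact h1.inv_left.eq
  have c5 : (E.w ^ a * E.u ^ b) * I = I * (E.w ^ a * E.u ^ b) := by
    rw [← hab, mul_assoc, c3, ← mul_assoc, c4, mul_assoc]
  have hIw : I * E.w * I⁻¹ = E.w⁻¹ := by
    have h1 : I⁻¹ = I := inv_eq_of_mul_eq_one_left hII
    rw [h1, hI]
    calc E.i₁ * E.i₂ * E.w * (E.i₁ * E.i₂) = E.i₁ * E.i₂ * E.w * (E.i₂ * E.i₁) := by
          rw [← A.i₁i₂]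
      _ = E.i₁ * (E.i₂ * E.w) * (E.i₂ * E.i₁) := by group
      _ = E.i₁ * (E.i₂ * E.w * E.i₂) * E.i₁ := by group
      _ = E.i₁ * E.w⁻¹ * E.i₁ := by rw [A.i₂w]
      _ = E.w⁻¹ * (E.i₁ * E.i₁) := by
          rw [(show Commute E.i₁ E.w from A.i₁w).inv_right.eq, mul_assoc]
      _ = E.w⁻¹ := by rw [A.i₁i₁, mul_one]
  have hIu : I * E.u * I⁻¹ = E.u⁻¹ := by
    have h1 : I⁻¹ = I := inv_eq_of_mul_eq_one_left hII
    rw [h1, hI]
    calc E.i₁ * E.i₂ * E.u * (E.i₁ * E.i₂) = E.i₁ * E.i₂ * E.u * (E.i₂ * E.i₁) := by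
          rw [← A.i₁i₂]
      _ = E.i₁ * (E.i₂ * E.u) * (E.i₂ * E.i₁) := by group
      _ = E.i₁ * E.u * (E.i₂ * E.i₂) * E.i₁ := by rw [A.i₂u]; group
      _ = E.u⁻¹ := by rw [A.i₂i₂, mul_one, A.i₁u]
  have c6 : I * (E.w ^ a * E.u ^ b) * I⁻¹ = (E.w ^ a * E.u ^ b)⁻¹ := by
    calc I * (E.w ^ a * E.u ^ b) * I⁻¹ = (I * E.w ^ a * I⁻¹) * (I * E.u ^ b * I⁻¹) := by group
      _ = (E.w⁻¹) ^ a * (E.u⁻¹) ^ b := by rw [← conj_pow, ← conj_pow, hIw, hIu]
      _ = (E.w ^ a * E.u ^ b)⁻¹ := by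
          rw [mul_inv_rev, ← inv_pow, ← inv_pow]
          exact ((A.commuw.inv_inv).pow_pow b a).symm.eq
  have c7 : (E.w ^ a * E.u ^ b) = (E.w ^ a * E.u ^ b)⁻¹ := by
    rw [← c6, ← c5]; group
  have c8 : (E.w ^ a * E.u ^ b) ^ 5 = 1 := by
    rw [A.qpow, mul_comm a, mul_comm b, pow_mul, pow_mul, A.w5, A.u5, one_pow, one_pow, one_mul]
  have c9 : E.w ^ a * E.u ^ b = 1 := by
    set q := E.w ^ a * E.u ^ b
    have h2 : q * q = 1 := by nth_rewrite 2 [c7]; exact mul_inv_cancel q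
    calc q = q ^ 5 * ((q * q)⁻¹) ^ 2 := by group
      _ = 1 := by rw [c8, h2]; simp
  have bn : β E.n = E.n := by
    rw [c9] at hab
    calc β E.n = E.n * (E.n⁻¹ * β E.n) := by group
      _ = E.n := by rw [hab, mul_one]
  have ball : ∀ x, β x = x := by
    have h1 : closure ((E.As : Set L) ∪ E.Al ∪ {E.n}) ≤ (β.toMonoidHom).eqLocus (MonoidHom.id L) := by
      rw [closure_le]
      rintro x ((hx | hx) | hx)
      · exact b1 x hx
      · exact b2 x hx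
      · rw [Set.mem_singleton_iff] at hx
        rw [hx]
        exact bn
    rw [A.gen] at h1
    intro x
    exact h1 (mem_top x)
  refine ⟨i, k, fun x => ?_⟩
  have h1 := ball x
  rw [hβx] at h1
  calc α x = g * (g⁻¹ * α x * g) * g⁻¹ := by group
    _ = _ := by rw [h1]

/-- G2: an automorphism fixing `w` is conjugation by an element of `⟨w⟩ × As` -/
theorem aut_w (α : MulAut L) (hw : α E.w = E.w) :
    ∃ i : ℕ, ∃ c ∈ E.As, ∀ x, α x = (E.w ^ i * c) * x * (E.w ^ i * c)⁻¹ := by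
  have h1 : α E.u ∈ E.As := A.map_As α (k := 1) (m := 1) (by rw [pow_one, hw]) (by simp) A.uAs
  obtain ⟨e⟩ := A.eAs
  obtain ⟨k, c, hc⟩ := conj_five e (u := ⟨E.u, A.uAs⟩) (fun h => A.u1 (congrArg Subtype.val h))
    (Subtype.ext A.u5) (x := ⟨α E.u, h1⟩)
    (fun h => A.u1 (α.injective (by rw [map_one]; exact congrArg Subtype.val h)))
    (Subtype.ext (by show α E.u ^ 5 = 1; rw [← map_pow, A.u5, map_one]))
  have hc' : (c : L) * α E.u * (c : L)⁻¹ = E.u ^ k := congrArg Subtype.val hc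
  rw [pow_eq_pow_mod k A.u5] at hc'
  have hk5 : k % 5 < 5 := Nat.mod_lt _ (by norm_num)
  set r := k % 5 with hr
  -- the reduction to `α u = u ^ r`
  set β : MulAut L := MulAut.conj (c : L) * α with hβ
  have hβx : ∀ x, β x = c * α x * (c : L)⁻¹ := fun x => rfl
  have bw : β E.w = E.w := by
    rw [hβx, hw, A.comm _ c.2 _ A.wAl]; group
  have bu : β E.u = E.u ^ r := by rw [hβx, hc']
  have fin : ∀ d ∈ E.As, (d * E.u ^ r * d⁻¹ = E.u) →
      ∃ i : ℕ, ∃ c ∈ E.As, ∀ x, α x = (E.w ^ i * c) * x * (E.w ^ i * c)⁻¹ := by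
    intro d hd hdu
    obtain ⟨i, j, hij⟩ := A.aut_uw (MulAut.conj d * β)
      (by show d * β E.w * d⁻¹ = E.w
          rw [bw, A.comm d hd _ A.wAl]; group)
      (by show d * β E.u * d⁻¹ = E.u
          rw [bu, hdu])
    refine ⟨i, (c : L)⁻¹ * d⁻¹ * E.u ^ j, mul_mem (mul_mem (inv_mem c.2) (inv_mem hd)) (pow_mem A.uAs _),
      fun x => ?_⟩
    have h2 : d * (c * α x * (c : L)⁻¹) * d⁻¹ = (E.w ^ i * E.u ^ j) * x * (E.w ^ i * E.u ^ j)⁻¹ := hij x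
    have c1 : Commute (E.w ^ i) ((c : L)⁻¹ * d⁻¹) :=
      ((show Commute E.w ((c : L)⁻¹ * d⁻¹) from
        (A.comm _ (mul_mem (inv_mem c.2) (inv_mem hd)) _ A.wAl).symm)).pow_left i
    have h3 : E.w ^ i * ((c : L)⁻¹ * d⁻¹ * E.u ^ j) = (c : L)⁻¹ * d⁻¹ * (E.w ^ i * E.u ^ j) := by
      rw [← mul_assoc, c1.eq, mul_assoc]
    rw [h3]
    calc α x = ((c : L)⁻¹ * d⁻¹) * (d * (c * α x * (c : L)⁻¹) * d⁻¹) * ((c : L)⁻¹ * d⁻¹)⁻¹ := by group
      _ = _ := by rw [h2]; group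
  -- `β(w u) = w u ^ r`
  have key : ∀ (i j : ℕ), r * 0 + 0 = 0 → T^[i] (0, j) = (1, r) → False := by
    intro i j _ hT
    have h2 := A.nqi i (0, j)
    rw [hT] at h2
    have h3 := A.nqi 1 (3, 0)
    rw [show T^[1] (3, 0) = (1, 1) by decide] at h3
    simp only [pow_zero, one_mul, mul_one, pow_one] at h2 h3
    have h4 := congrArg β h3
    rw [map_mul, map_mul, map_inv, map_mul, map_pow, bw, bu, ← h2] at h4
    refine A.sep' (k := 3) (fun h => A.w1 ?_) ((β E.n)⁻¹ * E.n ^ i) j ?_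
    · calc E.w = (E.w ^ 3) ^ 2 * (E.w ^ 5)⁻¹ := by group
        _ = 1 := by rw [h, A.w5]; simp
    · calc E.w ^ 3 = (β E.n)⁻¹ * (β E.n * E.w ^ 3 * (β E.n)⁻¹) * β E.n := by group
        _ = _ := by rw [h4]; group
  have hcase : r = 0 ∨ r = 1 ∨ r = 2 ∨ r = 3 ∨ r = 4 := by omega
  rcases hcase with h | h | h | h | h
  · exfalso
    rw [h, pow_zero] at bu
    exact A.u1 (β.injective (by rw [bu, map_one]))
  · exact fin 1 (one_mem _) (by rw [h]; simp)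
  · exact (key 2 1 (by simp) (by rw [h]; decide)).elim
  · exact (key 1 4 (by simp) (by rw [h]; decide)).elim
  · apply fin E.i₁ A.i₁As
    rw [h, ← conj_pow, A.i₁inv, A.i₁u]
    calc E.u⁻¹ ^ 4 = E.u * (E.u ^ 5)⁻¹ := by group
      _ = E.u := by rw [A.u5]; simp

/-- G3: an automorphism fixing `u` is conjugation by an element of `⟨u⟩ × Al` -/
theorem aut_u (α : MulAut L) (hu : α E.u = E.u) :
    ∃ i : ℕ, ∃ c ∈ E.Al, ∀ x, α x = (E.u ^ i * c) * x * (E.u ^ i * c)⁻¹ := by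
  have h1 : α E.w ∈ E.Al := A.map_Al α (k := 1) (m := 1) (by rw [pow_one, hu]) (by simp) A.wAl
  obtain ⟨e⟩ := A.eAl
  obtain ⟨k, c, hc⟩ := conj_five e (u := ⟨E.w, A.wAl⟩) (fun h => A.w1 (congrArg Subtype.val h))
    (Subtype.ext A.w5) (x := ⟨α E.w, h1⟩)
    (fun h => A.w1 (α.injective (by rw [map_one]; exact congrArg Subtype.val h)))
    (Subtype.ext (by show α E.w ^ 5 = 1; rw [← map_pow, A.w5, map_one]))
  have hc' : (c : L) * α E.w * (c : L)⁻¹ = E.w ^ k := congrArg Subtype.val hc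
  rw [pow_eq_pow_mod k A.w5] at hc'
  have hk5 : k % 5 < 5 := Nat.mod_lt _ (by norm_num)
  set r := k % 5 with hr
  set β : MulAut L := MulAut.conj (c : L) * α with hβ
  have hβx : ∀ x, β x = c * α x * (c : L)⁻¹ := fun x => rfl
  have bu : β E.u = E.u := by
    rw [hβx, hu, ← A.comm _ A.uAs _ c.2]; group
  have bw : β E.w = E.w ^ r := by rw [hβx, hc']
  have fin : ∀ d ∈ E.Al, (d * E.w ^ r * d⁻¹ = E.w) →
      ∃ i : ℕ, ∃ c ∈ E.Al, ∀ x, α x = (E.u ^ i * c) * x * (E.u ^ i * c)⁻¹ := by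
    intro d hd hdu
    obtain ⟨i, j, hij⟩ := A.aut_uw (MulAut.conj d * β)
      (by show d * β E.w * d⁻¹ = E.w
          rw [bw, hdu])
      (by show d * β E.u * d⁻¹ = E.u
          rw [bu, ← A.comm _ A.uAs d hd]; group)
    refine ⟨j, (c : L)⁻¹ * d⁻¹ * E.w ^ i, mul_mem (mul_mem (inv_mem c.2) (inv_mem hd)) (pow_mem A.wAl _),
      fun x => ?_⟩
    have h2 : d * (c * α x * (c : L)⁻¹) * d⁻¹ = (E.w ^ i * E.u ^ j) * x * (E.w ^ i * E.u ^ j)⁻¹ := hij x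
    have c1 : Commute (E.u ^ j) ((c : L)⁻¹ * d⁻¹) :=
      ((show Commute E.u ((c : L)⁻¹ * d⁻¹) from
        (A.comm _ A.uAs _ (mul_mem (inv_mem c.2) (inv_mem hd))))).pow_left j
    have h3 : E.u ^ j * ((c : L)⁻¹ * d⁻¹ * E.w ^ i) = (c : L)⁻¹ * d⁻¹ * (E.w ^ i * E.u ^ j) := by
      rw [← mul_assoc, c1.eq, mul_assoc, (A.commuw.pow_pow j i).eq]
    rw [h3]
    calc α x = ((c : L)⁻¹ * d⁻¹) * (d * (c * α x * (c : L)⁻¹) * d⁻¹) * ((c : L)⁻¹ * d⁻¹)⁻¹ := by group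
      _ = _ := by rw [h2]; group
  -- `β(w u²) = w ^ r u²`
  have key : ∀ (i j : ℕ), E.w ^ j ≠ 1 → T^[i] (j, 0) = (r, 2) → False := by
    intro i j hj hT
    have h2 := A.nqi i (j, 0)
    rw [hT] at h2
    have h3 := A.nqi 2 (0, 1)
    rw [show T^[2] (0, 1) = (1, 2) by decide] at h3
    simp only [pow_zero, one_mul, mul_one, pow_one] at h2 h3
    have h4 := congrArg β h3
    rw [map_mul, map_mul, map_inv, map_mul, map_pow, map_pow, bw, bu, ← h2] at h4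
    apply A.sep' hj ((E.n ^ i)⁻¹ * (β E.n) ^ 2) 1
    calc E.w ^ j = (E.n ^ i)⁻¹ * (E.n ^ i * E.w ^ j * (E.n ^ i)⁻¹) * E.n ^ i := by group
      _ = _ := by rw [← h4]; group
  have hcase : r = 0 ∨ r = 1 ∨ r = 2 ∨ r = 3 ∨ r = 4 := by omega
  rcases hcase with h | h | h | h | h
  · exfalso
    rw [h, pow_zero] at bw
    exact A.w1 (β.injective (by rw [bw, map_one]))
  · exact fin 1 (one_mem _) (by rw [h]; simp)
  · exact (key 1 1 (by rw [pow_one]; exact A.w1) (by rw [h]; decide)).elim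
  · refine (key 2 4 (fun h5 => A.w1 ?_) (by rw [h]; decide)).elim
    calc E.w = E.w ^ 5 * (E.w ^ 4)⁻¹ := by group
      _ = 1 := by rw [h5, A.w5]; simp
  · apply fin E.i₂ A.i₂Al
    rw [h, ← conj_pow, A.i₂inv, A.i₂w]
    calc E.w⁻¹ ^ 4 = E.w * (E.w ^ 5)⁻¹ := by group
      _ = E.w := by rw [A.w5]; simp

/-- inversion of `w`, `u` separately -/
theorem exists_sign {a b : ℕ} (ha : a = 1 ∨ a = 4) (hb : b = 1 ∨ b = 4) :
    ∃ d : L, d * E.w * d⁻¹ = E.w ^ a ∧ d * E.u * d⁻¹ = E.u ^ b := by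
  have hw4 : E.w⁻¹ = E.w ^ 4 := by
    calc E.w⁻¹ = E.w ^ 4 * (E.w ^ 5)⁻¹ := by group
      _ = E.w ^ 4 := by rw [A.w5]; simp
  have hu4 : E.u⁻¹ = E.u ^ 4 := by
    calc E.u⁻¹ = E.u ^ 4 * (E.u ^ 5)⁻¹ := by group
      _ = E.u ^ 4 := by rw [A.u5]; simp
  have w1 : E.i₁ * E.w * E.i₁⁻¹ = E.w := by rw [A.i₁w]; group
  have u1 : E.i₁ * E.u * E.i₁⁻¹ = E.u ^ 4 := by rw [A.i₁inv, A.i₁u, hu4]
  have w2 : E.i₂ * E.w * E.i₂⁻¹ = E.w ^ 4 := by rw [A.i₂inv, A.i₂w, hw4]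
  have u2 : E.i₂ * E.u * E.i₂⁻¹ = E.u := by rw [A.i₂u]; group
  rcases ha with rfl | rfl <;> rcases hb with rfl | rfl
  · exact ⟨1, by simp, by simp⟩
  · exact ⟨E.i₁, by rw [w1, pow_one], u1⟩
  · exact ⟨E.i₂, w2, by rw [u2, pow_one]⟩
  · refine ⟨E.i₁ * E.i₂, ?_, ?_⟩
    · calc E.i₁ * E.i₂ * E.w * (E.i₁ * E.i₂)⁻¹ = E.i₁ * (E.i₂ * E.w * E.i₂⁻¹) * E.i₁⁻¹ := by group
        _ = (E.i₁ * E.w * E.i₁⁻¹) ^ 4 := by rw [w2, conj_pow]
        _ = _ := by rw [w1]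
    · calc E.i₁ * E.i₂ * E.u * (E.i₁ * E.i₂)⁻¹ = E.i₁ * (E.i₂ * E.u * E.i₂⁻¹) * E.i₁⁻¹ := by group
        _ = _ := by rw [u2, u1]

omit [Group L] A in
/-- inverse exponents modulo 5 -/
theorem inv5 {k : ℕ} (hk : k % 5 ≠ 0) : ∃ m, (k * m) % 5 = 1 := by
  have h5 : ∀ r < 5, r ≠ 0 → ∃ m < 5, (r * m) % 5 = 1 := by decide
  obtain ⟨m, -, hm⟩ := h5 _ (Nat.mod_lt k (by norm_num)) hk
  exact ⟨m, by rw [← hm]; simp [Nat.mul_mod]⟩

/-- G4: up to inner automorphisms an automorphism maps `(w, u)` to `(w, u)` or to `(w², u²)` -/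
theorem aut_form (α : MulAut L) : ∃ (g : L) (k : ℕ), (k = 1 ∨ k = 2) ∧
    g * α E.w * g⁻¹ = E.w ^ k ∧ g * α E.u * g⁻¹ = E.u ^ k := by
  obtain ⟨g, k, h | h⟩ := A.five (α E.w) (by rw [← map_pow, A.w5, map_one])
  · exfalso
    apply A.sep α g⁻¹ k
    rw [← h]; group
  set β : MulAut L := MulAut.conj g * α with hβ
  have hβx : ∀ x, β x = g * α x * g⁻¹ := fun x => rfl
  have bw : β E.w = E.w ^ k := h
  have hk0 : k % 5 ≠ 0 := by
    intro h0
    rw [pow_eq_pow_mod k A.w5, h0, pow_zero] at bw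
    exact A.w1 (β.injective (by rw [bw, map_one]))
  obtain ⟨m, hm⟩ := inv5 hk0
  have hu : β E.u ∈ E.As := A.map_As β bw (m := m) (by
    rw [← pow_mul, pow_eq_pow_mod (k * m) A.w5, hm, pow_one]) A.uAs
  obtain ⟨e⟩ := A.eAs
  obtain ⟨l, c, hc⟩ := conj_five e (u := ⟨E.u, A.uAs⟩) (fun h => A.u1 (congrArg Subtype.val h))
    (Subtype.ext A.u5) (x := ⟨β E.u, hu⟩)
    (fun h => A.u1 (β.injective (by rw [map_one]; exact congrArg Subtype.val h)))
    (Subtype.ext (by show β E.u ^ 5 = 1; rw [← map_pow, A.u5, map_one]))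
  have hc' : (c : L) * β E.u * (c : L)⁻¹ = E.u ^ l := congrArg Subtype.val hc
  set γ : MulAut L := MulAut.conj (c : L) * β with hγ
  have hγx : ∀ x, γ x = (c * g) * α x * (c * g)⁻¹ := by
    intro x
    show (c : L) * (g * α x * g⁻¹) * (c : L)⁻¹ = _
    group
  have gw : γ E.w = E.w ^ (k % 5) := by
    show (c : L) * β E.w * (c : L)⁻¹ = _
    rw [bw, ← pow_eq_pow_mod k A.w5]
    have : Commute (c : L) (E.w ^ k) := (show Commute (c : L) E.w from A.comm _ c.2 _ A.wAl).pow_right k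
    rw [this.eq]; group
  have gu : γ E.u = E.u ^ (l % 5) := by
    show (c : L) * β E.u * (c : L)⁻¹ = _
    rw [hc', ← pow_eq_pow_mod l A.u5]
  have hl0 : l % 5 ≠ 0 := by
    intro h0
    rw [h0, pow_zero] at gu
    exact A.u1 (γ.injective (by rw [gu, map_one]))
  have hr5 : k % 5 < 5 := Nat.mod_lt _ (by norm_num)
  have ht5 : l % 5 < 5 := Nat.mod_lt _ (by norm_num)
  generalize k % 5 = r at gw hk0 hr5
  generalize l % 5 = t at gu hl0 ht5
  have hcases : t = r ∨ t + r = 5 := by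
    rcases T_types r (List.mem_range.2 hr5) t (List.mem_range.2 ht5) hk0 hl0 with h1 | h1 | ⟨i, -, j, -, hT⟩
    · exact Or.inl h1
    · exact Or.inr h1
    · exfalso
      have h2 := A.nqi i (0, j)
      rw [hT] at h2
      have h3 := A.nqi 1 (3, 0)
      rw [show T^[1] (3, 0) = (1, 1) by decide] at h3
      simp only [pow_zero, one_mul, mul_one, pow_one] at h2 h3
      have h4 := congrArg γ h3
      rw [map_mul, map_mul, map_inv, map_mul, map_pow, gw, gu, ← h2] at h4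
      refine A.sep' (k := r * 3) (fun h => hk0 ?_) ((γ E.n)⁻¹ * E.n ^ i) j ?_
      · have h5 : E.w ^ (r * 3 % 5) = 1 := by rw [← pow_eq_pow_mod _ A.w5, h]
        have h6 : ∀ r < 5, r ≠ 0 → ∃ m, (r * 3) % 5 * m % 5 = 1 := by
          intro r hr hr0
          have : r = 1 ∨ r = 2 ∨ r = 3 ∨ r = 4 := by omega
          rcases this with rfl | rfl | rfl | rfl
          exacts [⟨2, rfl⟩, ⟨1, rfl⟩, ⟨4, rfl⟩, ⟨3, rfl⟩]
        by_contra hr0
        obtain ⟨m, hm⟩ := h6 r hr5 hr0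
        apply A.w1
        calc E.w = E.w ^ ((r * 3) % 5 * m % 5) := by rw [hm, pow_one]
          _ = (E.w ^ ((r * 3) % 5)) ^ m := by rw [← pow_mul, ← pow_eq_pow_mod _ A.w5]
          _ = 1 := by rw [h5, one_pow]
      · calc E.w ^ (r * 3) = (γ E.n)⁻¹ * (γ E.n * (E.w ^ r) ^ 3 * (γ E.n)⁻¹) * γ E.n := by
              rw [pow_mul]; group
          _ = _ := by rw [h4]; group
  have hex : ∃ a b k', (a = 1 ∨ a = 4) ∧ (b = 1 ∨ b = 4) ∧ (k' = 1 ∨ k' = 2) ∧ a * r % 5 = k' ∧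
      b * t % 5 = k' := by
    have hr : r = 1 ∨ r = 2 ∨ r = 3 ∨ r = 4 := by omega
    rcases hcases with h1 | h1 <;> rcases hr with h2 | h2 | h2 | h2
    · exact ⟨1, 1, 1, by simp, by simp, by simp, by simp [h2], by simp [h1, h2]⟩
    · exact ⟨1, 1, 2, by simp, by simp, by simp, by simp [h2], by simp [h1, h2]⟩
    · exact ⟨4, 4, 2, by simp, by simp, by simp, by simp [h2], by simp [h1, h2]⟩
    · exact ⟨4, 4, 1, by simp, by simp, by simp, by simp [h2], by simp [h1, h2]⟩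
    · have h3 : t = 4 := by omega
      exact ⟨1, 4, 1, by simp, by simp, by simp, by simp [h2], by simp [h3]⟩
    · have h3 : t = 3 := by omega
      exact ⟨1, 4, 2, by simp, by simp, by simp, by simp [h2], by simp [h3]⟩
    · have h3 : t = 2 := by omega
      exact ⟨4, 1, 2, by simp, by simp, by simp, by simp [h2], by simp [h3]⟩
    · have h3 : t = 1 := by omega
      exact ⟨4, 1, 1, by simp, by simp, by simp, by simp [h2], by simp [h3]⟩
  obtain ⟨a, b, k', ha, hb, hk', h1, h2⟩ := hex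
  obtain ⟨d, hdw, hdu⟩ := A.exists_sign ha hb
  refine ⟨d * (c * g), k', hk', ?_, ?_⟩
  · calc d * (c * g) * α E.w * (d * (c * g))⁻¹ = d * ((c * g) * α E.w * (c * g)⁻¹) * d⁻¹ := by group
      _ = (d * E.w * d⁻¹) ^ r := by rw [← hγx, gw, conj_pow]
      _ = E.w ^ k' := by rw [hdw, ← pow_mul, pow_eq_pow_mod _ A.w5, h1]
  · calc d * (c * g) * α E.u * (d * (c * g))⁻¹ = d * ((c * g) * α E.u * (c * g)⁻¹) * d⁻¹ := by group
      _ = (d * E.u * d⁻¹) ^ t := by rw [← hγx, gu, conj_pow]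
      _ = E.u ^ k' := by rw [hdu, ← pow_mul, pow_eq_pow_mod _ A.u5, h2]

/-- an automorphism mapping `(w, u)` to `(w, u)` up to conjugation is inner -/
theorem inner_of_form_one (α : MulAut L) {g : L} (hw : g * α E.w * g⁻¹ = E.w)
    (hu : g * α E.u * g⁻¹ = E.u) : ∃ c : L, ∀ x, α x = c * x * c⁻¹ := by
  obtain ⟨i, k, h⟩ := A.aut_uw (MulAut.conj g * α) hw hu
  refine ⟨g⁻¹ * (E.w ^ i * E.u ^ k), fun x => ?_⟩
  have h1 : g * α x * g⁻¹ = (E.w ^ i * E.u ^ k) * x * (E.w ^ i * E.u ^ k)⁻¹ := h x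
  calc α x = g⁻¹ * (g * α x * g⁻¹) * g := by group
    _ = _ := by rw [h1]; group

/-- the product of two automorphisms mapping `(w, u)` to `(w², u²)` up to conjugation is inner -/
theorem inner_of_form_two (α β : MulAut L) {g h : L} (hw : g * α E.w * g⁻¹ = E.w ^ 2)
    (hu : g * α E.u * g⁻¹ = E.u ^ 2) (hw' : h * β E.w * h⁻¹ = E.w ^ 2)
    (hu' : h * β E.u * h⁻¹ = E.u ^ 2) : ∃ c : L, ∀ x, α (β x) = c * x * c⁻¹ := by
  obtain ⟨d, hdw, hdu⟩ := A.exists_sign (a := 4) (b := 4) (Or.inr rfl) (Or.inr rfl)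
  refine A.inner_of_form_one (α * β) (g := d * g * α h) ?_ ?_
  · show d * g * α h * α (β E.w) * (d * g * α h)⁻¹ = E.w
    calc d * g * α h * α (β E.w) * (d * g * α h)⁻¹ = d * (g * α (h * β E.w * h⁻¹) * g⁻¹) * d⁻¹ := by
          rw [map_mul, map_mul, map_inv]; group
      _ = d * (g * α E.w * g⁻¹) ^ 2 * d⁻¹ := by rw [hw', map_pow, conj_pow]
      _ = (d * E.w * d⁻¹) ^ 4 := by rw [hw, ← pow_mul, conj_pow]
      _ = E.w ^ 5 * E.w ^ 5 * E.w ^ 5 * E.w := by rw [hdw]; group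
      _ = E.w := by rw [A.w5]; simp
  · show d * g * α h * α (β E.u) * (d * g * α h)⁻¹ = E.u
    calc d * g * α h * α (β E.u) * (d * g * α h)⁻¹ = d * (g * α (h * β E.u * h⁻¹) * g⁻¹) * d⁻¹ := by
          rw [map_mul, map_mul, map_inv]; group
      _ = d * (g * α E.u * g⁻¹) ^ 2 * d⁻¹ := by rw [hu', map_pow, conj_pow]
      _ = (d * E.u * d⁻¹) ^ 4 := by rw [hu, ← pow_mul, conj_pow]
      _ = E.u ^ 5 * E.u ^ 5 * E.u ^ 5 * E.u := by rw [hdu]; group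
      _ = E.u := by rw [A.u5]; simp

/-- the square of an automorphism is inner -/
theorem sq_inner (α : MulAut L) : ∃ c : L, ∀ x, α (α x) = c * x * c⁻¹ := by
  obtain ⟨g, k, rfl | rfl, hw, hu⟩ := A.aut_form α
  · rw [pow_one] at hw hu
    obtain ⟨c, hc⟩ := A.inner_of_form_one α hw hu
    exact ⟨c * c, fun x => by rw [hc x, hc]; group⟩
  · exact A.inner_of_form_two α α hw hu hw hu

/-- `|Out(L)| ≤ 2`: the product of two non-inner automorphisms is inner -/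
theorem mul_inner (α β : MulAut L) (hα : ¬ ∃ c : L, ∀ x, α x = c * x * c⁻¹)
    (hβ : ¬ ∃ c : L, ∀ x, β x = c * x * c⁻¹) : ∃ c : L, ∀ x, α (β x) = c * x * c⁻¹ := by
  obtain ⟨g, k, rfl | rfl, hw, hu⟩ := A.aut_form α
  · rw [pow_one] at hw hu
    exact absurd (A.inner_of_form_one α hw hu) hα
  · obtain ⟨h, k, rfl | rfl, hw', hu'⟩ := A.aut_form β
    · rw [pow_one] at hw' hu'
      exact absurd (A.inner_of_form_one β hw' hu') hβ
    · exact A.inner_of_form_two α β hw hu hw' hu'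

theorem finite : Finite L := Nat.finite_of_card_ne_zero (by rw [A.card]; norm_num)

/-- 5-subgroups of `L` are abelian -/
theorem five_comm [Finite L] (P : Subgroup L) (hP : IsPGroup 5 P) {x y : L} (hx : x ∈ P) (hy : y ∈ P) :
    x * y = y * x := by
  haveI : Fact (Nat.Prime 5) := ⟨by norm_num⟩
  obtain ⟨Q, hQ⟩ := hP.exists_le_sylow
  have hc : Nat.card Q = 5 ^ 2 := by
    rw [Sylow.card_eq_multiplicity, A.card]
    congr 1
    rw [show (251596800 : ℕ) = 5 ^ 2 * 10063872 by norm_num,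
      Nat.factorization_mul (by norm_num) (by norm_num), Finsupp.add_apply,
      Nat.Prime.factorization_pow (by norm_num), Finsupp.single_eq_same,
      Nat.factorization_eq_zero_of_not_dvd (by norm_num)]
  have := IsPGroup.commutative_of_card_eq_prime_sq hc ⟨x, hQ hx⟩ ⟨y, hQ hy⟩
  exact congrArg Subtype.val this

theorem map_Al_iff (β : MulAut L) {k : ℕ} (hβ : β E.u = E.u ^ k) (x : L) : x ∈ E.Al ↔ β x ∈ E.Al := by
  have hk0 : k % 5 ≠ 0 := by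
    intro h0
    rw [pow_eq_pow_mod k A.u5, h0, pow_zero] at hβ
    exact A.u1 (β.injective (by rw [hβ, map_one]))
  obtain ⟨m, hm⟩ := inv5 hk0
  have hkm : (E.u ^ k) ^ m = E.u := by rw [← pow_mul, pow_eq_pow_mod (k * m) A.u5, hm, pow_one]
  have hmk : (E.u ^ m) ^ k = E.u := by rw [← pow_mul, mul_comm, pow_mul, hkm]
  have hi : β⁻¹ E.u = E.u ^ m := by
    apply β.injective
    rw [MulAut.apply_inv_self, map_pow, hβ, hkm]
  constructor
  · exact fun h => A.map_Al β hβ hkm h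
  · intro h
    have := A.map_Al β⁻¹ hi hmk h
    rwa [MulAut.inv_apply_self] at this

/-- G5: an automorphism fixing two commuting involutions of `Al` is inner -/
theorem inner_of_four (α : MulAut L) {z₁ z₂ : L} (h₁ : z₁ ∈ E.Al) (h₂ : z₂ ∈ E.Al) (n₁ : z₁ ≠ 1)
    (n₂ : z₂ ≠ 1) (s₁ : z₁ * z₁ = 1) (s₂ : z₂ * z₂ = 1) (hne : z₁ ≠ z₂) (hc : z₁ * z₂ = z₂ * z₁)
    (f₁ : α z₁ = z₁) (f₂ : α z₂ = z₂) : ∃ c : L, ∀ x, α x = c * x * c⁻¹ := by
  have := A.finite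
  have : Fact (Nat.Prime 5) := ⟨by norm_num⟩
  obtain ⟨e⟩ := A.eAl
  set C : Subgroup L := centralizer {z₁, z₂} with hCdef
  have memC : ∀ x, x ∈ C ↔ x * z₁ = z₁ * x ∧ x * z₂ = z₂ * x := by
    intro x
    rw [hCdef, mem_centralizer_iff]
    constructor
    · intro h
      exact ⟨(h z₁ (by simp)).symm, (h z₂ (by simp)).symm⟩
    · rintro ⟨h1, h2⟩ y hy
      rcases hy with rfl | hy
      · exact h1.symm
      · rw [Set.mem_singleton_iff] at hy
        rw [hy]; exact h2.symm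
  have hC : ∀ x, x ∈ C ↔ α x ∈ C := by
    intro x
    rw [memC, memC]
    constructor
    · rintro ⟨h1, h2⟩
      have h3 := congrArg α h1
      have h4 := congrArg α h2
      rw [map_mul, map_mul, f₁] at h3
      rw [map_mul, map_mul, f₂] at h4
      exact ⟨h3, h4⟩
    · rintro ⟨h1, h2⟩
      constructor
      · apply α.injective
        rw [map_mul, map_mul, f₁, h1]
      · apply α.injective
        rw [map_mul, map_mul, f₂, h2]
  have huC : E.u ∈ C := (memC _).2 ⟨A.comm _ A.uAs _ h₁, A.comm _ A.uAs _ h₂⟩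
  have hup : IsPGroup 5 (zpowers (⟨E.u, huC⟩ : C)) :=
    IsPGroup.of_card (n := 1) (by
      rw [Nat.card_zpowers, pow_one]
      exact orderOf_eq_prime (Subtype.ext A.u5) (fun h => A.u1 (congrArg Subtype.val h)))
  obtain ⟨P, hP⟩ := hup.exists_le_sylow
  have huP : (⟨E.u, huC⟩ : C) ∈ P := hP (mem_zpowers _)
  have hPu : ∀ x : C, x ∈ P → ∃ k : ℕ, (x : L) = E.u ^ k := by
    intro x hx
    have hPL : IsPGroup 5 ((P : Subgroup C).map C.subtype) := P.isPGroup'.map _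
    have hxu : (x : L) * E.u = E.u * x := A.five_comm _ hPL (mem_map_of_mem _ hx) (mem_map_of_mem _ huP)
    obtain ⟨i, d, hd, hxd⟩ := A.cu x hxu
    have hd1 : d = (E.u ^ i)⁻¹ * x := by rw [hxd]; group
    have hdm : (⟨E.u, huC⟩ ^ i)⁻¹ * x ∈ P := P.mul_mem (P.inv_mem (P.pow_mem huP i)) hx
    obtain ⟨n, hn⟩ := P.isPGroup' ⟨_, hdm⟩
    have hn' : d ^ 5 ^ n = 1 := by
      rw [hd1]
      exact congrArg (fun x : P => ((x : C) : L)) hn
    have hdz : d * z₁ = z₁ * d := by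
      have h1 : Commute (x : L) z₁ := ((memC x).1 x.2).1
      have h2 : Commute (E.u ^ i) z₁ := (show Commute E.u z₁ from A.comm _ A.uAs _ h₁).pow_left i
      rw [hd1]
      exact (h2.inv_left.mul_left h1).eq
    have hdd : (⟨d, hd⟩ : E.Al) * ⟨d, hd⟩ = 1 := cent_two e (z := ⟨z₁, h₁⟩)
      (fun h => n₁ (congrArg Subtype.val h)) (Subtype.ext s₁) (Subtype.ext hdz)
    have hdd' : d * d = 1 := congrArg Subtype.val hdd
    have hodd : Odd (5 ^ n) := Odd.pow (by decide)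
    obtain ⟨m, hm⟩ := hodd
    rw [hm, pow_succ, pow_mul, sq, hdd', one_pow, one_mul] at hn'
    exact ⟨i, by rw [hxd, hn', mul_one]⟩
  obtain ⟨c, hcC, hcP⟩ := frattini 5 C α hC P
  obtain ⟨y, hy, hyu⟩ := hcP ⟨E.u, huC⟩ huP
  obtain ⟨k, hk⟩ := hPu y hy
  obtain ⟨hc1, hc2⟩ := (memC c).1 hcC
  set β : MulAut L := MulAut.conj c * α with hβ
  have hβx : ∀ x, β x = c * α x * c⁻¹ := fun x => rfl
  have bu : β E.u = E.u ^ k := by rw [hβx, ← hk, hyu]
  have b1 : β z₁ = z₁ := by rw [hβx, f₁, hc1]; group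
  have b2 : β z₂ = z₂ := by rw [hβx, f₂, hc2]; group
  obtain ⟨v, -, hv⟩ := conj_of_fix_four e (res β E.Al (A.map_Al_iff β bu)) (a := ⟨z₁, h₁⟩)
    (b := ⟨z₂, h₂⟩) (fun h => n₁ (congrArg Subtype.val h)) (fun h => n₂ (congrArg Subtype.val h))
    (Subtype.ext s₁) (Subtype.ext s₂) (fun h => hne (congrArg Subtype.val h)) (Subtype.ext hc)
    (Subtype.ext b1) (Subtype.ext b2)
  have hv' : ∀ x ∈ E.Al, β x = v * x * (v : L)⁻¹ := fun x hx => congrArg Subtype.val (hv ⟨x, hx⟩)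
  obtain ⟨i, d, -, hd⟩ := A.aut_w (MulAut.conj (v : L)⁻¹ * β) (by
    show (v : L)⁻¹ * β E.w * (v : L)⁻¹⁻¹ = E.w
    rw [hv' _ A.wAl]; group)
  refine ⟨c⁻¹ * v * (E.w ^ i * d), fun x => ?_⟩
  have h5 : (v : L)⁻¹ * (c * α x * c⁻¹) * (v : L)⁻¹⁻¹ = E.w ^ i * d * x * (E.w ^ i * d)⁻¹ := hd x
  calc α x = c⁻¹ * v * ((v : L)⁻¹ * (c * α x * c⁻¹) * (v : L)⁻¹⁻¹) * (c⁻¹ * v)⁻¹ := by group
    _ = _ := by rw [h5]; group

/-- an automorphism fixing a Sylow 2-subgroup elementwise is inner -/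
theorem inner_of_sylow (α : MulAut L) (P : Sylow 2 L) (hα : ∀ x ∈ P, α x = x) :
    ∃ c : L, ∀ x, α x = c * x * c⁻¹ := by
  have := A.finite
  have : Fact (Nat.Prime 2) := ⟨by norm_num⟩
  obtain ⟨e⟩ := A.eAl
  obtain ⟨z₁, z₂, n₁, s₁, n₂, s₂, hne, hc⟩ := exists_four e
  set V : Subgroup L := E.Al ⊓ centralizer {(z₁ : L)} with hV
  have hV2 : ∀ x ∈ V, x * x = 1 := by
    rintro x ⟨hx1, hx2⟩
    have h1 : (z₁ : L) * x = x * z₁ := mem_centralizer_iff.1 hx2 _ rfl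
    have := cent_two e n₁ s₁ (x := ⟨x, hx1⟩) (Subtype.ext h1.symm)
    exact congrArg Subtype.val this
  have hVp : IsPGroup 2 V := fun x => ⟨1, by
    rw [pow_one, sq]; exact Subtype.ext (hV2 x x.2)⟩
  obtain ⟨Q, hQ⟩ := hVp.exists_le_sylow
  obtain ⟨g, hg⟩ := MulAction.exists_smul_eq L P Q
  have hzm : ∀ z ∈ Q, g⁻¹ * z * g ∈ P := by
    intro z hz
    rw [← hg] at hz
    have hz' : z ∈ ((g • P : Sylow 2 L) : Subgroup L) := hz
    rw [Sylow.coe_subgroup_smul, mem_pointwise_smul_iff_inv_smul_mem] at hz'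
    have h1 : (MulAut.conj g)⁻¹ • z = g⁻¹ * z * g := by
      rw [← map_inv, MulAut.smul_def, MulAut.conj_apply, inv_inv]
    rwa [h1] at hz'
  have hz1 : (z₁ : L) ∈ V := ⟨z₁.2, mem_centralizer_iff.2 (by rintro y rfl; rfl)⟩
  have hz2 : (z₂ : L) ∈ V := ⟨z₂.2, mem_centralizer_iff.2 (by
    rintro y rfl; exact congrArg Subtype.val hc)⟩
  have hfix : ∀ z ∈ V, (MulAut.conj g * α * (MulAut.conj g)⁻¹) z = z := by
    intro z hz
    have h1 := hα _ (hzm z (hQ hz))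
    show g * α ((MulAut.conj g)⁻¹ z) * g⁻¹ = z
    rw [← map_inv, MulAut.conj_apply, inv_inv, h1]; group
  obtain ⟨c, hc⟩ := A.inner_of_four (MulAut.conj g * α * (MulAut.conj g)⁻¹) z₁.2 z₂.2
    (fun h => n₁ (Subtype.ext h)) (fun h => n₂ (Subtype.ext h)) (congrArg Subtype.val s₁)
    (congrArg Subtype.val s₂) (fun h => hne (Subtype.ext h)) (congrArg Subtype.val hc)
    (hfix _ hz1) (hfix _ hz2)
  refine ⟨g⁻¹ * c * g, fun x => ?_⟩
  have h1 := hc (g * x * g⁻¹)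
  have h2 : (MulAut.conj g * α * (MulAut.conj g)⁻¹) (g * x * g⁻¹) = g * α x * g⁻¹ := by
    show g * α ((MulAut.conj g)⁻¹ (g * x * g⁻¹)) * g⁻¹ = g * α x * g⁻¹
    rw [← map_inv, MulAut.conj_apply, inv_inv]
    congr 3
    group
  rw [h2] at h1
  calc α x = g⁻¹ * (g * α x * g⁻¹) * g := by group
    _ = _ := by rw [h1]; group

end Ax

end Cfsg.Agent.StdG24.AutL
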