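import Cfsg.Agent.CoOneType.Model
set_option linter.all false

/-!
# The centralizer of `G₂(4)` in `Co₁` contains an alternating group of degree four

The letters `s t x y w d e' f g h` of `CoOneType.Model` satisfy the presentation `P957`.  The elements
`s, t, x, y, v = f e', q = g h, r = g f` generate a group `L ≅ G₂(4)` which commutes with `w`.  Here we give
an element `v2` and an element `rho` of order three of `Co₁` commuting with these letters with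
`rho w rho⁻¹ = v2`; the lifts of `w`, `v2` in `Co₀` have square `-1`.
-/

set_option autoImplicit false
set_option Elab.async false

namespace Cfsg.Agent.StdG24.CoSide

open Cfsg Cfsg.Agent.SporadicA Cfsg.Agent.SporadicStructure.Co0Matrix Cfsg.Agent.CoOneType.CoEval
  Cfsg.Agent.CoOneType

/-- Rows of `v2` (times 8). -/
def jR : List (List ℤ) :=
  [[0,-4,0,4,-4,0,0,4,0,0,0,0,0,0,0,0,0,0,0,0,0,0,0,0],
  [4,0,4,0,0,0,0,0,0,0,-4,0,-4,0,0,0,0,0,0,0,0,0,0,0],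
  [0,-4,0,-4,4,0,0,4,0,0,0,0,0,0,0,0,0,0,0,0,0,0,0,0],
  [-4,0,4,0,0,0,0,0,0,0,-4,0,4,0,0,0,0,0,0,0,0,0,0,0],
  [4,0,-4,0,0,0,0,0,0,0,-4,0,4,0,0,0,0,0,0,0,0,0,0,0],
  [0,0,0,0,0,0,0,0,0,0,0,-4,0,0,0,4,4,0,0,0,0,0,-4,0],
  [0,0,0,0,0,0,0,0,0,0,0,0,0,4,0,0,0,4,0,0,0,-4,0,-4],
  [-4,0,-4,0,0,0,0,0,0,0,-4,0,-4,0,0,0,0,0,0,0,0,0,0,0],
  [0,0,0,0,0,0,0,0,0,0,0,0,0,4,0,0,0,-4,0,0,0,-4,0,4],
  [0,0,0,0,0,0,0,0,0,0,0,0,0,4,0,0,0,-4,0,0,0,4,0,-4],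
  [0,4,0,4,4,0,0,4,0,0,0,0,0,0,0,0,0,0,0,0,0,0,0,0],
  [0,0,0,0,0,4,0,0,0,0,0,0,0,0,-4,0,0,0,-4,0,4,0,0,0],
  [0,4,0,-4,-4,0,0,4,0,0,0,0,0,0,0,0,0,0,0,0,0,0,0,0],
  [0,0,0,0,0,0,-4,0,-4,-4,0,0,0,0,0,0,0,0,0,-4,0,0,0,0],
  [0,0,0,0,0,0,0,0,0,0,0,4,0,0,0,-4,4,0,0,0,0,0,-4,0],
  [0,0,0,0,0,-4,0,0,0,0,0,0,0,0,4,0,0,0,-4,0,4,0,0,0],
  [0,0,0,0,0,-4,0,0,0,0,0,0,0,0,-4,0,0,0,-4,0,-4,0,0,0],
  [0,0,0,0,0,0,-4,0,4,4,0,0,0,0,0,0,0,0,0,-4,0,0,0,0],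
  [0,0,0,0,0,0,0,0,0,0,0,4,0,0,0,4,4,0,0,0,0,0,4,0],
  [0,0,0,0,0,0,0,0,0,0,0,0,0,4,0,0,0,4,0,0,0,4,0,4],
  [0,0,0,0,0,0,0,0,0,0,0,-4,0,0,0,-4,4,0,0,0,0,0,4,0],
  [0,0,0,0,0,0,4,0,4,-4,0,0,0,0,0,0,0,0,0,-4,0,0,0,0],
  [0,0,0,0,0,4,0,0,0,0,0,0,0,0,4,0,0,0,-4,0,-4,0,0,0],
  [0,0,0,0,0,0,4,0,-4,4,0,0,0,0,0,0,0,0,0,-4,0,0,0,0]]

/-- Columns of `v2` (times 8). -/
def jC : List (List ℤ) :=
  [[0,4,0,-4,4,0,0,-4,0,0,0,0,0,0,0,0,0,0,0,0,0,0,0,0],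
  [-4,0,-4,0,0,0,0,0,0,0,4,0,4,0,0,0,0,0,0,0,0,0,0,0],
  [0,4,0,4,-4,0,0,-4,0,0,0,0,0,0,0,0,0,0,0,0,0,0,0,0],
  [4,0,-4,0,0,0,0,0,0,0,4,0,-4,0,0,0,0,0,0,0,0,0,0,0],
  [-4,0,4,0,0,0,0,0,0,0,4,0,-4,0,0,0,0,0,0,0,0,0,0,0],
  [0,0,0,0,0,0,0,0,0,0,0,4,0,0,0,-4,-4,0,0,0,0,0,4,0],
  [0,0,0,0,0,0,0,0,0,0,0,0,0,-4,0,0,0,-4,0,0,0,4,0,4],
  [4,0,4,0,0,0,0,0,0,0,4,0,4,0,0,0,0,0,0,0,0,0,0,0],
  [0,0,0,0,0,0,0,0,0,0,0,0,0,-4,0,0,0,4,0,0,0,4,0,-4],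
  [0,0,0,0,0,0,0,0,0,0,0,0,0,-4,0,0,0,4,0,0,0,-4,0,4],
  [0,-4,0,-4,-4,0,0,-4,0,0,0,0,0,0,0,0,0,0,0,0,0,0,0,0],
  [0,0,0,0,0,-4,0,0,0,0,0,0,0,0,4,0,0,0,4,0,-4,0,0,0],
  [0,-4,0,4,4,0,0,-4,0,0,0,0,0,0,0,0,0,0,0,0,0,0,0,0],
  [0,0,0,0,0,0,4,0,4,4,0,0,0,0,0,0,0,0,0,4,0,0,0,0],
  [0,0,0,0,0,0,0,0,0,0,0,-4,0,0,0,4,-4,0,0,0,0,0,4,0],
  [0,0,0,0,0,4,0,0,0,0,0,0,0,0,-4,0,0,0,4,0,-4,0,0,0],
  [0,0,0,0,0,4,0,0,0,0,0,0,0,0,4,0,0,0,4,0,4,0,0,0],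
  [0,0,0,0,0,0,4,0,-4,-4,0,0,0,0,0,0,0,0,0,4,0,0,0,0],
  [0,0,0,0,0,0,0,0,0,0,0,-4,0,0,0,-4,-4,0,0,0,0,0,-4,0],
  [0,0,0,0,0,0,0,0,0,0,0,0,0,-4,0,0,0,-4,0,0,0,-4,0,-4],
  [0,0,0,0,0,0,0,0,0,0,0,4,0,0,0,4,-4,0,0,0,0,0,-4,0],
  [0,0,0,0,0,0,-4,0,-4,4,0,0,0,0,0,0,0,0,0,4,0,0,0,0],
  [0,0,0,0,0,-4,0,0,0,0,0,0,0,0,-4,0,0,0,4,0,4,0,0,0],
  [0,0,0,0,0,0,-4,0,4,-4,0,0,0,0,0,0,0,0,0,4,0,0,0,0]]

theorem ok_j : Ok jR jC := CoFast.ok_of_okZ (by decide +kernel)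

/-- Rows of `rho` (times 8). -/
def rR : List (List ℤ) :=
  [[4,-4,0,0,-4,0,0,0,0,0,0,0,-4,0,0,0,0,0,0,0,0,0,0,0],
  [4,4,0,0,4,0,0,0,0,0,0,0,-4,0,0,0,0,0,0,0,0,0,0,0],
  [0,0,4,-4,0,0,0,4,0,0,4,0,0,0,0,0,0,0,0,0,0,0,0,0],
  [0,0,4,4,0,0,0,4,0,0,-4,0,0,0,0,0,0,0,0,0,0,0,0,0],
  [4,-4,0,0,4,0,0,0,0,0,0,0,4,0,0,0,0,0,0,0,0,0,0,0],
  [0,0,0,0,0,4,0,0,0,0,0,-4,0,0,-4,0,0,0,0,0,0,0,-4,0],
  [0,0,0,0,0,0,4,0,0,4,0,0,0,0,0,0,0,4,0,0,0,0,0,-4],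
  [0,0,-4,-4,0,0,0,4,0,0,-4,0,0,0,0,0,0,0,0,0,0,0,0,0],
  [0,0,0,0,0,0,0,0,4,0,0,0,0,4,0,0,0,0,0,4,0,-4,0,0],
  [0,0,0,0,0,0,-4,0,0,4,0,0,0,0,0,0,0,-4,0,0,0,0,0,-4],
  [0,0,-4,4,0,0,0,4,0,0,4,0,0,0,0,0,0,0,0,0,0,0,0,0],
  [0,0,0,0,0,4,0,0,0,0,0,4,0,0,-4,0,0,0,0,0,0,0,4,0],
  [4,4,0,0,-4,0,0,0,0,0,0,0,4,0,0,0,0,0,0,0,0,0,0,0],
  [0,0,0,0,0,0,0,0,-4,0,0,0,0,4,0,0,0,0,0,-4,0,-4,0,0],
  [0,0,0,0,0,4,0,0,0,0,0,4,0,0,4,0,0,0,0,0,0,0,-4,0],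
  [0,0,0,0,0,0,0,0,0,0,0,0,0,0,0,4,4,0,-4,0,4,0,0,0],
  [0,0,0,0,0,0,0,0,0,0,0,0,0,0,0,-4,4,0,-4,0,-4,0,0,0],
  [0,0,0,0,0,0,-4,0,0,4,0,0,0,0,0,0,0,4,0,0,0,0,0,4],
  [0,0,0,0,0,0,0,0,0,0,0,0,0,0,0,4,4,0,4,0,-4,0,0,0],
  [0,0,0,0,0,0,0,0,-4,0,0,0,0,4,0,0,0,0,0,4,0,4,0,0],
  [0,0,0,0,0,0,0,0,0,0,0,0,0,0,0,-4,4,0,4,0,4,0,0,0],
  [0,0,0,0,0,0,0,0,4,0,0,0,0,4,0,0,0,0,0,-4,0,4,0,0],
  [0,0,0,0,0,4,0,0,0,0,0,-4,0,0,4,0,0,0,0,0,0,0,4,0],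
  [0,0,0,0,0,0,4,0,0,4,0,0,0,0,0,0,0,-4,0,0,0,0,0,4]]

/-- Columns of `rho` (times 8). -/
def rC : List (List ℤ) :=
  [[4,4,0,0,4,0,0,0,0,0,0,0,4,0,0,0,0,0,0,0,0,0,0,0],
  [-4,4,0,0,-4,0,0,0,0,0,0,0,4,0,0,0,0,0,0,0,0,0,0,0],
  [0,0,4,4,0,0,0,-4,0,0,-4,0,0,0,0,0,0,0,0,0,0,0,0,0],
  [0,0,-4,4,0,0,0,-4,0,0,4,0,0,0,0,0,0,0,0,0,0,0,0,0],
  [-4,4,0,0,4,0,0,0,0,0,0,0,-4,0,0,0,0,0,0,0,0,0,0,0],
  [0,0,0,0,0,4,0,0,0,0,0,4,0,0,4,0,0,0,0,0,0,0,4,0],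
  [0,0,0,0,0,0,4,0,0,-4,0,0,0,0,0,0,0,-4,0,0,0,0,0,4],
  [0,0,4,4,0,0,0,4,0,0,4,0,0,0,0,0,0,0,0,0,0,0,0,0],
  [0,0,0,0,0,0,0,0,4,0,0,0,0,-4,0,0,0,0,0,-4,0,4,0,0],
  [0,0,0,0,0,0,4,0,0,4,0,0,0,0,0,0,0,4,0,0,0,0,0,4],
  [0,0,4,-4,0,0,0,-4,0,0,4,0,0,0,0,0,0,0,0,0,0,0,0,0],
  [0,0,0,0,0,-4,0,0,0,0,0,4,0,0,4,0,0,0,0,0,0,0,-4,0],
  [-4,-4,0,0,4,0,0,0,0,0,0,0,4,0,0,0,0,0,0,0,0,0,0,0],
  [0,0,0,0,0,0,0,0,4,0,0,0,0,4,0,0,0,0,0,4,0,4,0,0],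
  [0,0,0,0,0,-4,0,0,0,0,0,-4,0,0,4,0,0,0,0,0,0,0,4,0],
  [0,0,0,0,0,0,0,0,0,0,0,0,0,0,0,4,-4,0,4,0,-4,0,0,0],
  [0,0,0,0,0,0,0,0,0,0,0,0,0,0,0,4,4,0,4,0,4,0,0,0],
  [0,0,0,0,0,0,4,0,0,-4,0,0,0,0,0,0,0,4,0,0,0,0,0,-4],
  [0,0,0,0,0,0,0,0,0,0,0,0,0,0,0,-4,-4,0,4,0,4,0,0,0],
  [0,0,0,0,0,0,0,0,4,0,0,0,0,-4,0,0,0,0,0,4,0,-4,0,0],
  [0,0,0,0,0,0,0,0,0,0,0,0,0,0,0,4,-4,0,-4,0,4,0,0,0],
  [0,0,0,0,0,0,0,0,-4,0,0,0,0,-4,0,0,0,0,0,4,0,4,0,0],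
  [0,0,0,0,0,-4,0,0,0,0,0,4,0,0,-4,0,0,0,0,0,0,0,4,0],
  [0,0,0,0,0,0,-4,0,0,-4,0,0,0,0,0,0,0,4,0,0,0,0,0,4]]

theorem ok_r : Ok rR rC := CoFast.ok_of_okZ (by decide +kernel)

/-- The matrices of the letters `0 … 11` of `Model`, `v2 = 12`, `rho = 13`, `rho⁻¹ = 14`. -/
def M : ℕ → List (List ℤ)
  | 12 => jR
  | 13 => rR
  | 14 => rC
  | i => Model.M i

/-- The letters in `Co0`. -/
def e : ℕ → Co0
  | 12 => mk ok_j
  | 13 => mk ok_r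
  | 14 => (mk ok_r)⁻¹
  | i => Model.e i

theorem hM : ∀ i, Rep (e i) (M i) := by
  intro i
  by_cases h12 : i = 12
  · subst h12; exact rep_mk ok_j
  by_cases h13 : i = 13
  · subst h13; exact rep_mk ok_r
  by_cases h14 : i = 14
  · subst h14; exact rep_inv ok_r
  have h1 : e i = Model.e i := by
    unfold e; split <;> first | rfl | (exfalso; omega)
  have h2 : M i = Model.M i := by
    unfold M; split <;> first | rfl | (exfalso; omega)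
  rw [h1, h2]
  exact Model.hM i

/-- The second involution commuting with `L`. -/
def v2 : Spor.Co1 := pr (e 12)
/-- An element of order three commuting with `L`. -/
def rho : Spor.Co1 := pr (e 13)

/-- Value of a word. -/
abbrev val (l : List ℕ) : Spor.Co1 := (l.map fun i => pr (e i)).prod

theorem rel {u v : List ℕ} (h : sameB M u v = true) : val u = val v := eq_of_sameB hM h

theorem v2_s : v2 * Model.s = Model.s * v2 := by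
  have h := rel (u := [12, 0]) (v := [0, 12]) (by decide +kernel)
  simpa [val, e, Model.e, mul_assoc, v2, rho, Model.s, Model.t, Model.x, Model.y, Model.w, Model.d, Model.e',
    Model.f, Model.g, Model.h, Model.pr_inv] using h

theorem v2_t : v2 * Model.t = Model.t * v2 := by
  have h := rel (u := [12, 1]) (v := [1, 12]) (by decide +kernel)
  simpa [val, e, Model.e, mul_assoc, v2, rho, Model.s, Model.t, Model.x, Model.y, Model.w, Model.d, Model.e',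
    Model.f, Model.g, Model.h, Model.pr_inv] using h

theorem v2_x : v2 * Model.x = Model.x * v2 := by
  have h := rel (u := [12, 2]) (v := [2, 12]) (by decide +kernel)
  simpa [val, e, Model.e, mul_assoc, v2, rho, Model.s, Model.t, Model.x, Model.y, Model.w, Model.d, Model.e',
    Model.f, Model.g, Model.h, Model.pr_inv] using h

theorem v2_y : v2 * Model.y = Model.y * v2 := by
  have h := rel (u := [12, 4]) (v := [4, 12]) (by decide +kernel)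
  simpa [val, e, Model.e, mul_assoc, v2, rho, Model.s, Model.t, Model.x, Model.y, Model.w, Model.d, Model.e',
    Model.f, Model.g, Model.h, Model.pr_inv] using h

theorem v2_w : v2 * Model.w = Model.w * v2 := by
  have h := rel (u := [12, 6]) (v := [6, 12]) (by decide +kernel)
  simpa [val, e, Model.e, mul_assoc, v2, rho, Model.s, Model.t, Model.x, Model.y, Model.w, Model.d, Model.e',
    Model.f, Model.g, Model.h, Model.pr_inv] using h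

theorem rho_s : rho * Model.s = Model.s * rho := by
  have h := rel (u := [13, 0]) (v := [0, 13]) (by decide +kernel)
  simpa [val, e, Model.e, mul_assoc, v2, rho, Model.s, Model.t, Model.x, Model.y, Model.w, Model.d, Model.e',
    Model.f, Model.g, Model.h, Model.pr_inv] using h

theorem rho_t : rho * Model.t = Model.t * rho := by
  have h := rel (u := [13, 1]) (v := [1, 13]) (by decide +kernel)
  simpa [val, e, Model.e, mul_assoc, v2, rho, Model.s, Model.t, Model.x, Model.y, Model.w, Model.d, Model.e',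
    Model.f, Model.g, Model.h, Model.pr_inv] using h

theorem rho_x : rho * Model.x = Model.x * rho := by
  have h := rel (u := [13, 2]) (v := [2, 13]) (by decide +kernel)
  simpa [val, e, Model.e, mul_assoc, v2, rho, Model.s, Model.t, Model.x, Model.y, Model.w, Model.d, Model.e',
    Model.f, Model.g, Model.h, Model.pr_inv] using h

theorem rho_y : rho * Model.y = Model.y * rho := by
  have h := rel (u := [13, 4]) (v := [4, 13]) (by decide +kernel)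
  simpa [val, e, Model.e, mul_assoc, v2, rho, Model.s, Model.t, Model.x, Model.y, Model.w, Model.d, Model.e',
    Model.f, Model.g, Model.h, Model.pr_inv] using h

theorem v2_fe : v2 * (Model.f * Model.e') = (Model.f * Model.e') * v2 := by
  have h := rel (u := [12, 9, 8]) (v := [9, 8, 12]) (by decide +kernel)
  simpa [val, e, Model.e, mul_assoc, v2, rho, Model.s, Model.t, Model.x, Model.y, Model.w, Model.d, Model.e',
    Model.f, Model.g, Model.h, Model.pr_inv] using h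

theorem rho_fe : rho * (Model.f * Model.e') = (Model.f * Model.e') * rho := by
  have h := rel (u := [13, 9, 8]) (v := [9, 8, 13]) (by decide +kernel)
  simpa [val, e, Model.e, mul_assoc, v2, rho, Model.s, Model.t, Model.x, Model.y, Model.w, Model.d, Model.e',
    Model.f, Model.g, Model.h, Model.pr_inv] using h

theorem v2_gf : v2 * (Model.g * Model.f) = (Model.g * Model.f) * v2 := by
  have h := rel (u := [12, 10, 9]) (v := [10, 9, 12]) (by decide +kernel)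
  simpa [val, e, Model.e, mul_assoc, v2, rho, Model.s, Model.t, Model.x, Model.y, Model.w, Model.d, Model.e',
    Model.f, Model.g, Model.h, Model.pr_inv] using h

theorem rho_gf : rho * (Model.g * Model.f) = (Model.g * Model.f) * rho := by
  have h := rel (u := [13, 10, 9]) (v := [10, 9, 13]) (by decide +kernel)
  simpa [val, e, Model.e, mul_assoc, v2, rho, Model.s, Model.t, Model.x, Model.y, Model.w, Model.d, Model.e',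
    Model.f, Model.g, Model.h, Model.pr_inv] using h

theorem v2_gh : v2 * (Model.g * Model.h) = (Model.g * Model.h) * v2 := by
  have h := rel (u := [12, 10, 11]) (v := [10, 11, 12]) (by decide +kernel)
  simpa [val, e, Model.e, mul_assoc, v2, rho, Model.s, Model.t, Model.x, Model.y, Model.w, Model.d, Model.e',
    Model.f, Model.g, Model.h, Model.pr_inv] using h

theorem rho_gh : rho * (Model.g * Model.h) = (Model.g * Model.h) * rho := by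
  have h := rel (u := [13, 10, 11]) (v := [10, 11, 13]) (by decide +kernel)
  simpa [val, e, Model.e, mul_assoc, v2, rho, Model.s, Model.t, Model.x, Model.y, Model.w, Model.d, Model.e',
    Model.f, Model.g, Model.h, Model.pr_inv] using h

theorem v2_sq : v2 * v2 = 1 := by
  have h := rel (u := [12, 12]) (v := []) (by decide +kernel)
  simpa [val, e, Model.e, mul_assoc, v2, rho, Model.s, Model.t, Model.x, Model.y, Model.w, Model.d, Model.e',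
    Model.f, Model.g, Model.h, Model.pr_inv] using h

theorem rho_cube : rho * rho * rho = 1 := by
  have h := rel (u := [13, 13, 13]) (v := []) (by decide +kernel)
  simpa [val, e, Model.e, mul_assoc, v2, rho, Model.s, Model.t, Model.x, Model.y, Model.w, Model.d, Model.e',
    Model.f, Model.g, Model.h, Model.pr_inv] using h

theorem rho_w : rho * Model.w = v2 * rho := by
  have h := rel (u := [13, 6]) (v := [12, 13]) (by decide +kernel)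
  simpa [val, e, Model.e, mul_assoc, v2, rho, Model.s, Model.t, Model.x, Model.y, Model.w, Model.d, Model.e',
    Model.f, Model.g, Model.h, Model.pr_inv] using h

theorem rho_v2 : rho * v2 = Model.w * v2 * rho := by
  have h := rel (u := [13, 12]) (v := [6, 12, 13]) (by decide +kernel)
  simpa [val, e, Model.e, mul_assoc, v2, rho, Model.s, Model.t, Model.x, Model.y, Model.w, Model.d, Model.e',
    Model.f, Model.g, Model.h, Model.pr_inv] using h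


theorem rho_conj : rho * Model.w * rho⁻¹ = v2 := by
  rw [rho_w]; group

theorem ne_one {l : List ℕ} (h : neB M l = true) : val l ≠ 1 := ne_one_of_neB hM h

theorem v2_ne_one : v2 ≠ 1 := by
  have h := ne_one (l := [12]) (by decide +kernel)
  simpa [val, v2] using h

theorem v2_ne_w : v2 ≠ Model.w := by
  have h := ne_one (l := [12, 6]) (by decide +kernel)
  intro h2
  apply h
  have h3 : val [12, 6] = v2 * Model.w := by simp [val, e, v2, Model.w, Model.e]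
  rw [h3, h2]
  exact Model.v_w2

/-- The lift of `w` has square `-1`. -/
theorem w_lift : Model.w = pr (Model.e 6) ∧ Model.e 6 * Model.e 6 = Co0Basic.negCo0 := by
  refine ⟨rfl, ?_⟩
  have h := eq_neg_of_negB hM (w := [6, 6]) (by decide +kernel)
  simpa [e] using h

/-- The lift of `v2` has square `-1`. -/
theorem v2_lift : v2 = pr (e 12) ∧ e 12 * e 12 = Co0Basic.negCo0 := by
  refine ⟨rfl, ?_⟩
  have h := eq_neg_of_negB hM (w := [12, 12]) (by decide +kernel)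
  simpa [e] using h

end Cfsg.Agent.StdG24.CoSide
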