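import Cfsg.Agent.StdG24.Al6
import Cfsg.Agent.StdG24.AutA5
set_option linter.all false

-- part: StdG24/Cent6
section
/-!
# Centralisers of the elements of order five, the element `n`, generation
-/

set_option autoImplicit false
set_option linter.constructorNameAsVariable false
set_option linter.unusedVariables false

namespace Cfsg.Agent.StdG24.Cent6

open Cfsg.Agent.SporRec
open Cfsg.Agent.SporRec.GF4
open Cfsg.Agent.SporRec.G24Code (app)
open Cfsg.Agent.SporRec.G24Orb (allb allb_spec)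
open Cfsg.Agent.StdG24.Mod6
open Cfsg.Agent.StdG24.Ord6
open Cfsg.Agent.StdG24.Al6

/-- the vectors of the plane `⟨e0, e1⟩` -/
def V0 (x : Vec) : Prop := ∃ a < 4, ∃ b < 4, x = dec (a + 1024 * b)

theorem V0_of_mod {n : ℕ} (hn : n < 4096) (h : Nat.beq (n % 1024 / 4) 0 = true) : V0 (dec n) := by
  have h1 : n % 1024 / 4 = 0 := Nat.eq_of_beq_eq_true h
  exact ⟨n % 1024, by omega, n / 1024, by omega, by congr 1; omega⟩

theorem V0_e0 : V0 e0 := ⟨1, by norm_num, 0, by norm_num, rfl⟩
theorem V0_e1 : V0 e1 := ⟨0, by norm_num, 1, by norm_num, rfl⟩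

theorem pair_check : ∀ a < 4, ∀ b < 4, ∀ c < 4, ∀ d < 4, formC (a + 1024 * b) (c + 1024 * d) = 1 →
    (AST.any fun e => Nat.beq (app e.1 1) (a + 1024 * b) && Nat.beq (app e.1 1024) (c + 1024 * d)) = true := by
  decide +kernel

/-- `As` is transitive on the hyperbolic pairs of the plane -/
theorem exists_As {x y : Vec} (hx : V0 x) (hy : V0 y) (h : form x y = 1) :
    ∃ s ∈ As, act s e0 = x ∧ act s e1 = y := by
  obtain ⟨a, ha, b, hb, rfl⟩ := hx
  obtain ⟨c, hc, d, hd, rfl⟩ := hy
  obtain ⟨e, he, h1⟩ := List.any_eq_true.1 (pair_check a ha b hb c hc d hd h)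
  obtain ⟨s, hs, hse⟩ := exists_elt_As he
  rw [Bool.and_eq_true] at h1
  exact ⟨s, hs, (hse.1.app_eq_iff (by norm_num) (by omega)).2 (Nat.eq_of_beq_eq_true h1.1),
    (hse.1.app_eq_iff (by norm_num) (by omega)).2 (Nat.eq_of_beq_eq_true h1.2)⟩

/-- the stabiliser of the plane is `As × Al` -/
theorem split {g : GL6} (hg : g ∈ L) (h0 : V0 (act g e0)) (h1 : V0 (act g e1)) :
    ∃ s ∈ As, ∃ a ∈ Al, g = s * a := by
  obtain ⟨s, hs, hs0, hs1⟩ := exists_As h0 h1 (by rw [form_act hg, form_e0_e1])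
  refine ⟨s, hs, s⁻¹ * g, mem_Al_iff.2 ⟨⟨L.mul_mem (L.inv_mem (As_le hs)) hg, ?_⟩, ?_⟩,
    (mul_inv_cancel_left s g).symm⟩
  · rw [act_mul, ← hs0, act_inv_act]
  · rw [act_mul, ← hs1, act_inv_act]

/-! ### The centraliser of `w` -/

theorem fixw_check : allb (fun n => !(Nat.beq (app wC n) n) || Nat.beq (n % 1024 / 4) 0) 4096 = true := by
  decide +kernel

theorem V0_of_fix {x : Vec} (h : act wE x = x) : V0 x := by
  obtain ⟨n, hn, rfl⟩ := exists_dec x
  have h1 := (isCode_wE.app_eq_iff hn hn).1 h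
  have h2 := allb_spec fixw_check n hn
  rw [Bool.or_eq_true, Bool.not_eq_true'] at h2
  rcases h2 with h2 | h2
  · rw [h1, Nat.beq_refl] at h2
    exact absurd h2 (by decide)
  · exact V0_of_mod hn h2

theorem fixw_e0 : act wE e0 = e0 := (mem_Al_iff.1 wE_mem).1.2
theorem fixw_e1 : act wE e1 = e1 := (mem_Al_iff.1 wE_mem).2

theorem inter {g : GL6} (h1 : g ∈ As) (h2 : g ∈ Al) : g = 1 := by
  have hc : (⟨g, h1⟩ : As) ∈ Subgroup.center As := by
    rw [Subgroup.mem_center_iff]
    intro k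
    exact Subtype.ext (comm_Al_As h2 k.2).symm
  rcases (inferInstance : (Subgroup.center As).Normal).eq_bot_or_eq_top with h | h
  · rw [h, Subgroup.mem_bot] at hc
    exact congrArg Subtype.val hc
  · exfalso
    have h3 : ∀ x y : As, x * y = y * x := fun x y => by
      have : y ∈ Subgroup.center As := by rw [h]; trivial
      exact Subgroup.mem_center_iff.1 this x
    have h4 := congrArg Subtype.val (h3 ⟨gx 2 0, gx2_mem 0⟩ ⟨gx 9 0, gx9_mem 0⟩)
    change gx 2 0 * gx 9 0 = gx 9 0 * gx 2 0 at h4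
    rw [← ev_pair, ← ev_pair] at h4
    exact absurd (ev_eq_iff.1 h4) (by decide +kernel)

/-- powers of `w` in `Al` -/
theorem pow_w {a : GL6} (ha : a ∈ Al) (h : a * wE = wE * a) : ∃ i : ℕ, a = wE ^ i := by
  obtain ⟨e⟩ := equiv_Al
  obtain ⟨k, hk⟩ := AutA5.cent_five e (u := ⟨wE, wE_mem⟩) (fun h => wE_ne (congrArg Subtype.val h))
    (Subtype.ext wE_pow) (x := ⟨a, ha⟩) (Subtype.ext h)
  exact ⟨k, congrArg Subtype.val hk⟩

/-- powers of `u` in `As` -/
theorem pow_u {a : GL6} (ha : a ∈ As) (h : a * uE = uE * a) : ∃ i : ℕ, a = uE ^ i := by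
  obtain ⟨e⟩ := equiv_As
  obtain ⟨k, hk⟩ := AutA5.cent_five e (u := ⟨uE, uE_mem⟩) (fun h => uE_ne (congrArg Subtype.val h))
    (Subtype.ext uE_pow) (x := ⟨a, ha⟩) (Subtype.ext h)
  exact ⟨k, congrArg Subtype.val hk⟩

theorem cent_w {g : GL6} (hg : g ∈ L) (h : g * wE = wE * g) : ∃ i : ℕ, ∃ s ∈ As, g = wE ^ i * s := by
  have h0 : ∀ x, act wE x = x → V0 (act g x) := fun x hx => V0_of_fix (by
    rw [← act_mul, ← h, act_mul, hx])
  obtain ⟨s, hs, a, ha, rfl⟩ := split hg (h0 _ fixw_e0) (h0 _ fixw_e1)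
  have h1 : wE * s = s * wE := comm_Al_As wE_mem hs
  have h2 : a * wE = wE * a := by
    rw [mul_assoc, ← mul_assoc wE, h1, mul_assoc] at h
    exact mul_left_cancel h
  obtain ⟨i, rfl⟩ := pow_w ha h2
  exact ⟨i, s, hs, (comm_Al_As ha hs).symm⟩

/-! ### The centraliser of `u` -/

/-- the scalar `ω²` -/
def SC : List ℕ := [3, 1, 12, 4, 48, 16, 192, 64, 768, 256, 3072, 1024]

theorem SC_check : ∀ j < 12, dec (SC.getD j 0) = F4.v • dec (2 ^ j) := by decide +kernel

theorem isCode_SC : IsCode (F4.v • (1 : Mat)) SC := by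
  refine isCode_of_cols rfl (by decide) (fun j hj => ?_)
  rw [Matrix.smul_mulVec, Matrix.one_mulVec]
  exact SC_check j hj

def uiC : List ℕ := cw [(9, 1), (2, 0)]

theorem isCode_uEi : IsCode ((uE⁻¹ : GL6) : Mat) uiC := by
  have h : uE⁻¹ = ev [(9, 1), (2, 0)] := (ev_reverse [(2, 0), (9, 1)]).symm
  rw [h]
  exact isCode_ev _

theorem fixu_check : allb (fun n => !(Nat.beq (Nat.xor (app uC n) (app uiC n)) (app SC n)) ||
    Nat.beq (n % 1024 / 4) 0) 4096 = true := by
  decide +kernel

theorem V0_of_eig {x : Vec} (h : act uE x + act uE⁻¹ x = F4.v • x) : V0 x := by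
  obtain ⟨n, hn, rfl⟩ := exists_dec x
  have h1 : dec (app uC n ^^^ app uiC n) = dec (app SC n) := by
    rw [dec_xor, isCode_uE.spec n hn, isCode_uEi.spec n hn, isCode_SC.spec n hn, Matrix.smul_mulVec,
      Matrix.one_mulVec]
    exact h
  have h3 := dec_inj (Nat.xor_lt_two_pow (n := 12) (isCode_uE.app_lt n) (isCode_uEi.app_lt n))
    (isCode_SC.app_lt n) h1
  have h2 := allb_spec fixu_check n hn
  rw [Bool.or_eq_true, Bool.not_eq_true'] at h2
  rcases h2 with h2 | h2
  · have h4 : Nat.beq (Nat.xor (app uC n) (app uiC n)) (app SC n) = true := by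
      rw [← h3]; exact Nat.beq_refl _
    rw [h4] at h2
    exact absurd h2 (by decide)
  · exact V0_of_mod hn h2

theorem eig_check : (Nat.xor (app uC 1) (app uiC 1) = app SC 1) ∧
    (Nat.xor (app uC 1024) (app uiC 1024) = app SC 1024) := by decide +kernel

theorem eig_of {n : ℕ} (hn : n < 4096) (h : Nat.xor (app uC n) (app uiC n) = app SC n) :
    act uE (dec n) + act uE⁻¹ (dec n) = F4.v • dec n := by
  have h1 : dec (app uC n ^^^ app uiC n) = dec (app SC n) := congrArg dec h
  rw [dec_xor, isCode_uE.spec n hn, isCode_uEi.spec n hn, isCode_SC.spec n hn, Matrix.smul_mulVec,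
      Matrix.one_mulVec] at h1
  exact h1

theorem eig_e0 : act uE e0 + act uE⁻¹ e0 = F4.v • e0 := eig_of (by norm_num) eig_check.1
theorem eig_e1 : act uE e1 + act uE⁻¹ e1 = F4.v • e1 := eig_of (by norm_num) eig_check.2

theorem cent_u {g : GL6} (hg : g ∈ L) (h : g * uE = uE * g) : ∃ i : ℕ, ∃ a ∈ Al, g = uE ^ i * a := by
  have hi : g * uE⁻¹ = uE⁻¹ * g := ((show Commute g uE from h).inv_right).eq
  have h0 : ∀ x, act uE x + act uE⁻¹ x = F4.v • x → V0 (act g x) := fun x hx => V0_of_eig (by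
    rw [← act_mul, ← act_mul, ← h, ← hi, act_mul, act_mul, ← act_add, hx, act_smul])
  obtain ⟨s, hs, a, ha, rfl⟩ := split hg (h0 _ eig_e0) (h0 _ eig_e1)
  have h1 : a * uE = uE * a := comm_Al_As ha uE_mem
  have h2 : s * uE = uE * s := by
    rw [mul_assoc, h1, ← mul_assoc, ← mul_assoc] at h
    exact mul_right_cancel h
  obtain ⟨i, rfl⟩ := pow_u hs h2
  exact ⟨i, a, ha, rfl⟩

/-! ### The element `n` -/

/-- `n₀`, and `n = x₅(1) n₀` -/
def n0W : Wd := [(4, 0), (2, 0), (5, 2), (10, 0), (2, 0), (4, 0)]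
def nW : Wd := (5, 0) :: n0W

def nE : GL6 := ev nW

theorem nE_mem : nE ∈ L := ev_mem _

theorem n_check : cw (nW ++ [(2, 0), (5, 0)]) = cw ([(2, 0), (5, 0)] ++ nW) ∧
    cw (nW ++ [(5, 0), (6, 1)] ++ nW.reverse) = cw ([(5, 0), (6, 1), (5, 0), (6, 1), (2, 0), (9, 1), (2, 0), (9, 1)]) ∧
    cw (nW ++ [(2, 0), (9, 1)] ++ nW.reverse) = cw ([(5, 0), (6, 1), (5, 0), (6, 1), (5, 0), (6, 1), (5, 0), (6, 1),
      (2, 0), (9, 1), (2, 0), (9, 1)]) := by
  decide +kernel

theorem ni : nE * (gx 2 0 * gx 5 0) = gx 2 0 * gx 5 0 * nE := by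
  have h := ev_eq_of n_check.1
  rw [ev_append, ev_append, ev_pair] at h
  exact h

theorem wE_sq : wE ^ 2 = ev [(5, 0), (6, 1), (5, 0), (6, 1)] := by
  rw [sq, wE, ← ev_append]; rfl

theorem uE_sq : uE ^ 2 = ev [(2, 0), (9, 1), (2, 0), (9, 1)] := by
  rw [sq, uE, ← ev_append]; rfl

theorem wE_four : wE ^ 4 = ev [(5, 0), (6, 1), (5, 0), (6, 1), (5, 0), (6, 1), (5, 0), (6, 1)] := by
  have h : wE ^ 4 = wE ^ 2 * wE ^ 2 := by group
  rw [h, wE_sq, ← ev_append]; rfl

theorem nw : nE * wE * nE⁻¹ = wE ^ 2 * uE ^ 2 := by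
  have h := ev_eq_of n_check.2.1
  rw [ev_append, ev_append, ev_reverse] at h
  rw [wE_sq, uE_sq, ← ev_append]
  exact h

theorem nu : nE * uE * nE⁻¹ = wE ^ 4 * uE ^ 2 := by
  have h := ev_eq_of n_check.2.2
  rw [ev_append, ev_append, ev_reverse] at h
  rw [wE_four, uE_sq, ← ev_append]
  exact h

/-! ### Generation by `As`, `Al`, `n` -/

/-- words in root elements and `n₀` -/
def flat (l : List (Option (Fin 12 × Fin 3))) : Wd := l.flatMap fun o =>
  match o with
  | none => n0W
  | some p => [p]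

def okL (l : List (Option (Fin 12 × Fin 3))) : Bool := l.all fun o =>
  match o with
  | none => true
  | some p => decide (p.1 = 2 ∨ p.1 = 5 ∨ p.1 = 6 ∨ p.1 = 9)

theorem flat_mem {K : Subgroup GL6} (hs : As ≤ K) (hl : Al ≤ K) (hn : ev n0W ∈ K)
    (l : List (Option (Fin 12 × Fin 3))) (h : okL l = true) : ev (flat l) ∈ K := by
  induction l with
  | nil => exact K.one_mem
  | cons o l ih =>
    have h1 : flat (o :: l) = flat [o] ++ flat l := by
      simp [flat]
    have h2 : okL (o :: l) = (okL [o] && okL l) := by simp [okL]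
    rw [h2, Bool.and_eq_true] at h
    rw [h1, ev_append]
    refine K.mul_mem ?_ (ih h.2)
    match o, h.1 with
    | none, _ =>
      have : flat [none] = n0W := by simp [flat]
      rw [this]; exact hn
    | some (r, t), h3 =>
      have h4 : flat [some (r, t)] = [(r, t)] := rfl
      rw [h4, ev_singleton]
      simp only [okL, List.all_cons, List.all_nil, Bool.and_true, decide_eq_true_eq] at h3
      rcases h3 with rfl | rfl | rfl | rfl
      · exact hs (gx2_mem t)
      · exact hl (gx5_mem t)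
      · exact hl (gx6_mem t)
      · exact hs (gx9_mem t)

def gl00 : List (Option (Fin 12 × Fin 3)) := [some (9,2),none,some (5,2),none,some (5,1),none,some (2,0),none,some (9,0),some (6,0),none,some (2,0),some (5,2),none,some (2,2),some (9,0),some (6,2),some (2,2),none,some (6,1),some (5,2)]
def gl02 : List (Option (Fin 12 × Fin 3)) := [some (9,2),none,some (5,1),none,some (5,2),none,some (2,0),none,some (9,0),some (6,0),none,some (2,1),none,some (9,2),some (5,1),none,some (2,2),some (5,0),some (6,1),some (5,0)]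
def gl110 : List (Option (Fin 12 × Fin 3)) := [some (2,2),none,some (9,2),some (5,1),none,some (2,2),some (6,2),some (2,2),none,some (9,2),some (5,1),none,some (2,2),some (6,2)]
def gl70 : List (Option (Fin 12 × Fin 3)) := [none,some (9,0),some (2,2),some (6,2),some (5,0),none,some (2,2),none,some (9,2),some (5,1),none,some (2,2),some (9,0),some (5,1),some (6,2),some (5,1)]
def gl40 : List (Option (Fin 12 × Fin 3)) := [some (5,2),none,some (9,2),none,some (9,0),none,some (6,1),none,some (2,2),some (9,0),some (5,0),some (6,2),none,some (2,0),none,some (9,0),some (6,0),none,some (2,0),some (6,0),some (5,0)]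

theorem gl_check : (cw (flat gl00) = cw [(0, 0)] ∧ okL gl00 = true) ∧ (cw (flat gl02) = cw [(0, 2)] ∧ okL gl02 = true) ∧
    (cw (flat gl110) = cw [(11, 0)] ∧ okL gl110 = true) ∧ (cw (flat gl70) = cw [(7, 0)] ∧ okL gl70 = true) ∧
    (cw (flat gl40) = cw [(4, 0)] ∧ okL gl40 = true) := by
  decide +kernel

/-- `As`, `Al` and `n` generate -/
theorem L_le {K : Subgroup GL6} (hs : As ≤ K) (hl : Al ≤ K) (hn : nE ∈ K) : L ≤ K := by
  have hn0 : ev n0W ∈ K := by
    have h1 : nE = gx 5 0 * ev n0W := rfl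
    have h2 : ev n0W = gx 5 0 * nE := by rw [h1, ← mul_assoc, gx_sq, one_mul]
    rw [h2]
    exact K.mul_mem (hl (gx5_mem 0)) hn
  obtain ⟨⟨c1, d1⟩, ⟨c2, d2⟩, ⟨c3, d3⟩, ⟨c4, d4⟩, c5, d5⟩ := gl_check
  have key : ∀ (l : List (Option (Fin 12 × Fin 3))) (p : Fin 12 × Fin 3), cw (flat l) = cw [p] →
      okL l = true → gx p.1 p.2 ∈ K := by
    intro l p h1 h2
    have h3 := ev_eq_of h1
    rw [ev_singleton] at h3
    rw [← h3]
    exact flat_mem hs hl hn0 l h2
  have k1 := key _ _ c1 d1
  have k2 := key _ _ c2 d2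
  have k3 := key _ _ c3 d3
  have k4 := key _ _ c4 d4
  have k5 := key _ _ c5 d5
  rw [← closure_B]
  refine (Subgroup.closure_le _).2 ?_
  rintro _ ⟨i, rfl⟩
  have hB : ∀ i, B i = ev (bw i) := fun _ => rfl
  rw [SetLike.mem_coe, hB]
  fin_cases i
  · change ev [(0, 2)] ∈ K
    rw [ev_singleton]; exact k2
  · change ev [(11, 0)] ∈ K
    rw [ev_singleton]; exact k3
  · change ev ([(6, 1), (0, 0)] ++ [(6, 1)]) ∈ K
    rw [ev_append, ev_pair, ev_singleton]
    exact K.mul_mem (K.mul_mem (hl (gx6_mem 1)) k1) (hl (gx6_mem 1))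
  · change ev [(7, 0)] ∈ K
    rw [ev_singleton]; exact k4
  · change ev [(4, 0)] ∈ K
    rw [ev_singleton]; exact k5
  · change ev [(0, 0)] ∈ K
    rw [ev_singleton]; exact k1

end Cfsg.Agent.StdG24.Cent6
end

-- part: StdG24/Inv6
section
/-!
# The involutions of the six-dimensional `G₂(4)`

The centraliser of `v = x₉(1)`, the two classes of involutions, `v` and `z = x₆(1)` are not
conjugate under automorphisms.
-/

set_option autoImplicit false
set_option linter.constructorNameAsVariable false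
set_option linter.unusedVariables false

namespace Cfsg.Agent.StdG24.Inv6

open Cfsg.Agent.SporRec
open Cfsg.Agent.SporRec.GF4
open Cfsg.Agent.SporRec.G24Code (app)
open Cfsg.Agent.SporRec.G24Orb (allb allb_spec)
open Cfsg.Agent.StdG24.Mod6
open Cfsg.Agent.StdG24.Ord6
open Cfsg.Agent.StdG24.Al6
open Cfsg.Agent.StdG24.Cent6

/-- the involution `v = x₉(1)` of `As` -/
def vE : GL6 := gx 9 0

/-- the involution `z = x₆(1)` of `Al` -/
def zE : GL6 := gx 6 0

theorem vE_mem : vE ∈ As := gx9_mem 0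
theorem zE_mem : zE ∈ Al := gx6_mem 0

/-- the nilpotent part of `v` -/
def N (x : Vec) : Vec := ![x 5, x 3, x 4, 0, 0, 0]

theorem vmat : (vE : Mat) = !![1, 0, 0, 0, 0, 1; 0, 1, 0, 1, 0, 0; 0, 0, 1, 0, 1, 0;
    0, 0, 0, 1, 0, 0; 0, 0, 0, 0, 1, 0; 0, 0, 0, 0, 0, 1] := by
  change matOf (xc 9 0) = _
  decide +kernel

theorem act_v (x : Vec) : act vE x = x + N x := by
  rw [act, vmat]
  funext i
  fin_cases i <;> simp [N, Matrix.mulVec, dotProduct, Fin.sum_univ_six, Matrix.of_apply] 

theorem form_e0 (x : Vec) : form x e0 = x 5 := by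
  have h : ∀ i : Fin 6, e0 i = if i = 0 then 1 else 0 := by decide +kernel
  rw [form, Finset.sum_eq_single 5]
  · rw [h]
    simp
  · intro i _ hi
    rw [h, if_neg, mul_zero]
    intro h1
    apply hi
    rw [← Fin.rev_rev i, h1]
    rfl
  · intro h; exact absurd (Finset.mem_univ _) h

theorem form_v (x : Vec) : form x (act vE x) = x 5 * x 5 := by
  rw [act_v, form_add_right, form_self, zero_add]
  have h : ∀ a b : F4, a * b + b * a = 0 := by decide
  have h2 : form x (N x) = x 5 * x 5 + (x 3 * x 4 + x 4 * x 3) := by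
    rw [form, Fin.sum_univ_six]
    change x 0 * 0 + x 1 * 0 + x 2 * 0 + x 3 * x 4 + x 4 * x 3 + x 5 * x 5 = _
    ring
  rw [h2, h, add_zero]

/-- the centraliser of `v` -/
def Cv : Subgroup GL6 where
  carrier := {g | g ∈ L ∧ g * vE = vE * g}
  one_mem' := ⟨L.one_mem, by rw [one_mul, mul_one]⟩
  mul_mem' := by
    rintro a b ⟨ha, ha'⟩ ⟨hb, hb'⟩
    exact ⟨L.mul_mem ha hb, by rw [mul_assoc, hb', ← mul_assoc, ha', mul_assoc]⟩
  inv_mem' := by
    rintro a ⟨ha, ha'⟩
    exact ⟨L.inv_mem ha, ((show Commute a vE from ha').inv_left).eq⟩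

theorem mem_Cv {g : GL6} : g ∈ Cv ↔ g ∈ L ∧ g * vE = vE * g := Iff.rfl

theorem Cv_coord {g : GL6} (hg : g ∈ Cv) (x : Vec) : (act g x) 5 = x 5 := by
  have h1 : form (act g x) (act vE (act g x)) = form x (act vE x) := by
    rw [← act_mul, ← hg.2, act_mul, form_act hg.1]
  rw [form_v, form_v] at h1
  have h2 : ∀ a b : F4, a * a = b * b → a = b := by decide
  exact h2 _ _ h1

theorem eq_of_form {x y : Vec} (h : ∀ z, form z x = form z y) : x = y := by
  have h1 : x + y = 0 := by
    apply eq_zero_of_form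
    intro z
    rw [form_comm, form_add_right, h z]
    have h2 : ∀ a : F4, a + a = 0 := by decide
    exact h2 _
  have h3 : ∀ a b : F4, a + b = 0 → a = b := by decide
  funext i
  exact h3 _ _ (congrFun h1 i)

/-- the centraliser of `v` fixes `e0` -/
theorem Cv_e0 {g : GL6} (hg : g ∈ Cv) : act g e0 = e0 := by
  apply eq_of_form
  intro z
  have h1 : form z (act g e0) = form (act g⁻¹ z) e0 := by
    rw [← form_act hg.1 (act g⁻¹ z) e0, act_act_inv]
  rw [h1, form_e0, form_e0]
  exact Cv_coord (Cv.inv_mem hg) z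

theorem e1_5 : e1 5 = 1 := by decide +kernel

theorem N_e1 : N e1 = e0 := by decide +kernel

/-- the vectors fixed by `v` -/
theorem fix_v {x : Vec} : act vE x = x ↔ x 3 = 0 ∧ x 4 = 0 ∧ x 5 = 0 := by
  rw [act_v]
  constructor
  · intro h
    have h1 : N x = 0 := add_eq_left.1 h
    exact ⟨congrFun h1 1, congrFun h1 2, congrFun h1 0⟩
  · rintro ⟨h3, h4, h5⟩
    have h1 : N x = 0 := by
      rw [N, h3, h4, h5]
      decide
    rw [h1, add_zero]

theorem act_sub' (g : GL6) (x y : Vec) : act g (x - y) = act g x - act g y := Matrix.mulVec_sub _ _ _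

/-- the displacement of `e1` under the centraliser of `v` -/
theorem Cv_e1 {g : GL6} (hg : g ∈ Cv) : ∃ a : Vec, act g e1 = e1 + a ∧ a 3 = 0 ∧ a 4 = 0 ∧ a 5 = 0 := by
  refine ⟨act g e1 - e1, by rw [add_sub_cancel], fix_v.1 ?_⟩
  have h1 : act vE e1 = e1 + e0 := by rw [act_v, N_e1]
  rw [act_sub', ← act_mul, ← hg.2, act_mul, h1, act_add, Cv_e0 hg]
  abel

theorem form_D {a b : Vec} (ha : a 3 = 0 ∧ a 4 = 0 ∧ a 5 = 0) (hb : b 3 = 0 ∧ b 4 = 0 ∧ b 5 = 0) :
    form a b = 0 := by
  rw [form, Fin.sum_univ_six]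
  change a 0 * b 5 + a 1 * b 4 + a 2 * b 3 + a 3 * b 2 + a 4 * b 1 + a 5 * b 0 = 0
  rw [ha.1, ha.2.1, ha.2.2, hb.1, hb.2.1, hb.2.2]
  ring

/-- the character of the centraliser of `v` -/
def chi (g : GL6) : F4 := form (act g e1) e1

theorem chi_mul {g h : GL6} (hg : g ∈ Cv) (hh : h ∈ Cv) : chi (g * h) = chi g + chi h := by
  obtain ⟨a, ha, ha'⟩ := Cv_e1 hh
  obtain ⟨b, hb, hb'⟩ := Cv_e1 (Cv.inv_mem hg)
  have h1 : chi (g * h) = form (act h e1) (act g⁻¹ e1) := by
    rw [chi, act_mul, ← form_act hg.1 (act h e1) (act g⁻¹ e1), act_act_inv]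
  have h2 : chi g = form e1 (act g⁻¹ e1) := by
    rw [chi, ← form_act hg.1 e1 (act g⁻¹ e1), act_act_inv]
  rw [h1, h2, chi, ha, hb, form_add_left, form_add_right, form_add_right,
    form_add_left, form_self, form_D ha' hb']
  ring

theorem chi_one : chi 1 = 0 := by rw [chi, act_one, form_self]

theorem chi_inv {g : GL6} (hg : g ∈ Cv) : chi g⁻¹ = chi g := by
  have h := chi_mul (Cv.inv_mem hg) hg
  rw [inv_mul_cancel, chi_one] at h
  have h3 : ∀ a b : F4, 0 = a + b → a = b := by decide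
  exact h3 _ _ h

theorem chi_v : chi vE = 1 := by
  rw [chi, act_v, N_e1, form_add_left, form_self, form_e0_e1, zero_add]

/-- the kernel of the character -/
def Wv : Subgroup GL6 where
  carrier := {g | g ∈ Cv ∧ chi g = 0}
  one_mem' := ⟨Cv.one_mem, chi_one⟩
  mul_mem' := by
    rintro a b ⟨ha, ha'⟩ ⟨hb, hb'⟩
    exact ⟨Cv.mul_mem ha hb, by rw [chi_mul ha hb, ha', hb', add_zero]⟩
  inv_mem' := by
    rintro a ⟨ha, ha'⟩
    exact ⟨Cv.inv_mem ha, by rw [chi_inv ha, ha']⟩

theorem mem_Wv {g : GL6} : g ∈ Wv ↔ g ∈ Cv ∧ chi g = 0 := Iff.rfl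

/-! ### `v` and `z` -/

/-- `a` is a product of commutators of elements commuting with `a` -/
def DC {G : Type*} [Group G] (a : G) : Prop :=
  a ∈ Subgroup.closure {c | ∃ x y : G, x * a = a * x ∧ y * a = a * y ∧ c = x * y * x⁻¹ * y⁻¹}

theorem DC.map {G H : Type*} [Group G] [Group H] (β : G ≃* H) {a : G} (h : DC a) : DC (β a) := by
  have h1 : ∀ b ∈ Subgroup.closure {c | ∃ x y : G, x * a = a * x ∧ y * a = a * y ∧ c = x * y * x⁻¹ * y⁻¹},
      β b ∈ Subgroup.closure {c | ∃ x y : H, x * β a = β a * x ∧ y * β a = β a * y ∧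
        c = x * y * x⁻¹ * y⁻¹} := by
    intro b hb
    induction hb using Subgroup.closure_induction with
    | mem b hb =>
      obtain ⟨x, y, hx, hy, rfl⟩ := hb
      exact Subgroup.subset_closure ⟨β x, β y, by rw [← map_mul, hx, map_mul],
        by rw [← map_mul, hy, map_mul], by simp⟩
    | one => rw [map_one]; exact Subgroup.one_mem _
    | mul b c _ _ hb hc => rw [map_mul]; exact Subgroup.mul_mem _ hb hc
    | inv b _ hb => rw [map_inv]; exact Subgroup.inv_mem _ hb
  exact h1 a h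

/-- the elements as elements of `L` -/
def lv : L := ⟨vE, As_le vE_mem⟩
def lz : L := ⟨zE, Al_le zE_mem⟩

theorem not_DC_v : ¬ DC lv := by
  intro h
  have h1 : ∀ b ∈ Subgroup.closure {c | ∃ x y : L, x * lv = lv * x ∧ y * lv = lv * y ∧
      c = x * y * x⁻¹ * y⁻¹}, (b : GL6) ∈ Wv := by
    intro b hb
    induction hb using Subgroup.closure_induction with
    | mem b hb =>
      obtain ⟨x, y, hx, hy, rfl⟩ := hb
      have hx' : (x : GL6) ∈ Cv := ⟨x.2, congrArg Subtype.val hx⟩
      have hy' : (y : GL6) ∈ Cv := ⟨y.2, congrArg Subtype.val hy⟩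
      refine ⟨Cv.mul_mem (Cv.mul_mem (Cv.mul_mem hx' hy') (Cv.inv_mem hx')) (Cv.inv_mem hy'), ?_⟩
      change chi ((x : GL6) * y * (x : GL6)⁻¹ * (y : GL6)⁻¹) = 0
      rw [chi_mul (Cv.mul_mem (Cv.mul_mem hx' hy') (Cv.inv_mem hx')) (Cv.inv_mem hy'),
        chi_mul (Cv.mul_mem hx' hy') (Cv.inv_mem hx'), chi_mul hx' hy', chi_inv hx', chi_inv hy']
      have h3 : ∀ a b : F4, a + b + a + b = 0 := by decide
      exact h3 _ _
    | one => exact Wv.one_mem
    | mul b c _ _ hb hc => exact Wv.mul_mem hb hc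
    | inv b _ hb => exact Wv.inv_mem hb
  have h2 := (h1 _ h).2
  change chi vE = 0 at h2
  rw [chi_v] at h2
  exact absurd h2 (by decide)

theorem z_check : cw [(11, 0), (1, 0), (11, 0), (1, 0)] = cw [(6, 0)] ∧
    cw [(11, 0), (6, 0)] = cw [(6, 0), (11, 0)] ∧ cw [(1, 0), (6, 0)] = cw [(6, 0), (1, 0)] := by
  decide +kernel

theorem DC_z : DC lz := by
  apply Subgroup.subset_closure
  refine ⟨⟨gx 11 0, gx_mem _ _⟩, ⟨gx 1 0, gx_mem _ _⟩, ?_, ?_, ?_⟩
  · exact Subtype.ext (gx_comm _ _ _ _ z_check.2.1)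
  · exact Subtype.ext (gx_comm _ _ _ _ z_check.2.2)
  · apply Subtype.ext
    change zE = gx 11 0 * gx 1 0 * (gx 11 0)⁻¹ * (gx 1 0)⁻¹
    have h := ev_eq_of z_check.1
    rw [ev_singleton] at h
    rw [gx_inv, gx_inv]
    exact h.symm.trans (by rw [show [((11 : Fin 12), (0 : Fin 3)), (1, 0), (11, 0), (1, 0)] =
      [(11, 0), (1, 0)] ++ [(11, 0), (1, 0)] from rfl, ev_append, ev_pair]; group)

/-- `z` and `v` are not conjugate under automorphisms -/
theorem not_map_z_v (β : L ≃* L) : β lz ≠ lv := fun h => not_DC_v (h ▸ DC_z.map β)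

end Cfsg.Agent.StdG24.Inv6
end

-- part: StdG24/Cls6
section
/-!
# Every involution of the six-dimensional `G₂(4)` is conjugate into `As` or `Al`
-/

set_option autoImplicit false
set_option linter.constructorNameAsVariable false
set_option linter.unusedVariables false

namespace Cfsg.Agent.StdG24.Cls6

open Cfsg.Agent.SporRec
open Cfsg.Agent.SporRec.GF4
open Cfsg.Agent.SporRec.G24Code (app)
open Cfsg.Agent.SporRec.G24Orb (allb allb_spec)
open Cfsg.Agent.StdG24.Mod6
open Cfsg.Agent.StdG24.Ord6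
open Cfsg.Agent.StdG24.Al6
open Cfsg.Agent.StdG24.Cent6
open Cfsg.Agent.StdG24.Inv6

theorem add_self' (x : Vec) : x + x = 0 := by
  have h : ∀ a : F4, a + a = 0 := by decide
  funext i; exact h _

theorem F4_add_self (a : F4) : a + a = 0 := by revert a; decide

theorem F4_exists_inv {a : F4} (h : a ≠ 0) : ∃ b : F4, b * a = 1 := by revert a; decide

theorem F4_eq_of_add {a b : F4} (h : a + b = 0) : a = b := by revert a b; decide

theorem F4_sq_one {a : F4} (h : a * a = 1) : a = 1 := by revert a; decide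

theorem exists_form_one {x : Vec} (hx : x ≠ 0) : ∃ y, form x y = 1 := by
  by_contra h
  push Not at h
  apply hx
  apply eq_zero_of_form
  intro y
  by_contra hy
  obtain ⟨b, hb⟩ := F4_exists_inv hy
  exact h (b • y) (by rw [form_smul_right, hb])

/-- four linear conditions have a nonzero solution -/
theorem exists_orth (a b c d : Vec) : ∃ r : Vec, r ≠ 0 ∧ form r a = 0 ∧ form r b = 0 ∧ form r c = 0 ∧
    form r d = 0 := by
  let f : Vec → F4 × F4 × F4 × F4 := fun r => (form r a, form r b, form r c, form r d)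
  have hcard : Fintype.card (F4 × F4 × F4 × F4) < Fintype.card Vec := by
    rw [card_Vec, Fintype.card_prod, Fintype.card_prod, Fintype.card_prod, F4.card_F4]
    norm_num
  obtain ⟨x, y, hxy, h⟩ := Fintype.exists_ne_map_eq_of_card_lt f hcard
  refine ⟨x + y, ?_, ?_⟩
  · intro h0
    apply hxy
    funext i
    exact F4_eq_of_add (congrFun h0 i)
  · simp only [f, Prod.mk.injEq] at h
    obtain ⟨h1, h2, h3, h4⟩ := h
    rw [form_add_left, form_add_left, form_add_left, form_add_left, h1, h2, h3, h4]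
    exact ⟨F4_add_self _, F4_add_self _, F4_add_self _, F4_add_self _⟩

/-- A vector orthogonal to six vectors with nonsingular Gram matrix is zero. -/
theorem eq_zero_of_six {p p' x y r s : Vec} (hpp : form p p' = 0) (hpx : form p x = 0)
    (hpy : form p y = 1) (hp'x : form p' x = 1) (hp'y : form p' y = 0)
    (hrp : form r p = 0) (hrp' : form r p' = 0) (hrx : form r x = 0) (hry : form r y = 0)
    (hsp : form s p = 0) (hsp' : form s p' = 0) (hsx : form s x = 0) (hsy : form s y = 0)
    (hrs : form r s = 1) {z : Vec} (h1 : form z p = 0) (h2 : form z p' = 0) (h3 : form z x = 0)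
    (h4 : form z y = 0) (h5 : form z r = 0) (h6 : form z s = 0) : z = 0 := by
  let Φ : (Fin 6 → F4) → Vec := fun c =>
    c 0 • p + (c 1 • p' + (c 2 • x + (c 3 • y + (c 4 • r + c 5 • s))))
  have hF : ∀ (c : Fin 6 → F4) (t : Vec), form (Φ c) t = c 0 * form p t + (c 1 * form p' t + (c 2 * form x t +
      (c 3 * form y t + (c 4 * form r t + c 5 * form s t)))) := by
    intro c t
    simp only [Φ, form_add_left, form_smul_left]
  have hinj : Function.Injective Φ := by
    intro c d h
    have hf : ∀ t, form (Φ c) t = form (Φ d) t := fun t => by rw [h]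
    have e3 := hf p
    have e2 := hf p'
    have e5 := hf r
    have e4 := hf s
    have e1 := hf x
    have e0 := hf y
    rw [hF, hF] at e0 e1 e2 e3 e4 e5
    rw [form_self, form_comm p' p, hpp, form_comm x p, hpx, form_comm y p, hpy, hrp, hsp] at e3
    rw [form_self, hpp, form_comm x p', hp'x, form_comm y p', hp'y, hrp', hsp'] at e2
    rw [form_self, form_comm p r, hrp, form_comm p' r, hrp', form_comm x r, hrx, form_comm y r, hry,
      form_comm s r, hrs] at e5
    rw [form_self, form_comm p s, hsp, form_comm p' s, hsp', form_comm x s, hsx, form_comm y s, hsy,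
      hrs] at e4
    rw [form_self, hpx, hp'x, hrx, hsx] at e1
    rw [form_self, hpy, hp'y, hry, hsy] at e0
    have c3 : c 3 = d 3 := by simpa using e3
    have c2 : c 2 = d 2 := by simpa using e2
    have c5 : c 5 = d 5 := by simpa using e5
    have c4 : c 4 = d 4 := by simpa using e4
    rw [c3] at e1
    rw [c2] at e0
    have c1 : c 1 = d 1 := by simpa using e1
    have c0 : c 0 = d 0 := by simpa using e0
    funext i
    fin_cases i
    · exact c0
    · exact c1
    · exact c2
    · exact c3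
    · exact c4
    · exact c5
  have hsurj : Function.Surjective Φ := Finite.surjective_of_injective hinj
  apply eq_zero_of_form
  intro t
  obtain ⟨c, rfl⟩ := hsurj t
  rw [form_comm, hF, form_comm p z, h1, form_comm p' z, h2, form_comm x z, h3, form_comm y z, h4,
    form_comm r z, h5, form_comm s z, h6]
  ring

/-- An involution with `(x, t x) = 0` for all `x` fixes a hyperbolic pair. -/
theorem exists_pair {t : GL6} (ht : t ∈ L) (htt : t * t = 1) (ht1 : t ≠ 1)
    (hq : ∀ x, form x (act t x) = 0) : ∃ r s : Vec, act t r = r ∧ act t s = s ∧ form r s = 1 := by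
  have tt : ∀ x, act t (act t x) = x := fun x => by rw [← act_mul, htt, act_one]
  have adj : ∀ x y, form (act t x) y = form x (act t y) := fun x y => by
    rw [← form_act ht x (act t y), tt]
  obtain ⟨x, hx⟩ : ∃ x, act t x ≠ x := by
    by_contra h
    push Not at h
    exact ht1 (act_ext fun x => by rw [h x, act_one])
  set p := x + act t x with hp
  have hp0 : p ≠ 0 := by
    intro h
    apply hx
    funext i
    exact (F4_eq_of_add (congrFun h i)).symm
  obtain ⟨y, hpy⟩ := exists_form_one hp0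
  set p' := y + act t y with hp'
  have tp : act t p = p := by rw [hp, act_add, tt, add_comm]
  have tp' : act t p' = p' := by rw [hp', act_add, tt, add_comm]
  have hpx : form p x = 0 := by
    rw [hp, form_add_left, form_self, adj, hq, add_zero]
  have hp'y : form p' y = 0 := by
    rw [hp', form_add_left, form_self, adj, hq, add_zero]
  have hpp : form p p' = 0 := by
    rw [hp', form_add_right, ← adj, tp, F4_add_self]
  have hp'x : form p' x = 1 := by
    rw [form_comm, hp', form_add_right, ← adj, ← form_add_left, hpy]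
  have tx : act t x = x + p := by rw [hp, ← add_assoc, add_self', zero_add]
  have ty : act t y = y + p' := by rw [hp', ← add_assoc, add_self', zero_add]
  obtain ⟨r, hr0, hrp, hrp', hrx, hry⟩ := exists_orth p p' x y
  obtain ⟨s₀, hs₀⟩ := exists_form_one hr0
  -- projection of `s₀`
  set e := form x y with he
  set dl := form s₀ p with hdl
  set ga := form s₀ p' with hga
  set be := form s₀ x + dl * e with hbe
  set al := form s₀ y + ga * e with hal
  obtain ⟨s, hs⟩ : ∃ s, s = s₀ + (al • p + (be • p' + (ga • x + dl • y))) := ⟨_, rfl⟩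
  have hF : ∀ t, form s t = form s₀ t + (al * form p t + (be * form p' t + (ga * form x t + dl * form y t))) := by
    intro t
    rw [hs]
    simp only [form_add_left, form_smul_left]
  have hsp : form s p = 0 := by
    rw [hF, form_self, form_comm p' p, hpp, form_comm x p, hpx, form_comm y p, hpy, ← hdl]
    have h : dl + (al * 0 + (be * 0 + (ga * 0 + dl * 1))) = dl + dl := by ring
    rw [h, F4_add_self]
  have hsp' : form s p' = 0 := by
    rw [hF, form_self, hpp, form_comm x p', hp'x, form_comm y p', hp'y, ← hga]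
    have h : ga + (al * 0 + (be * 0 + (ga * 1 + dl * 0))) = ga + ga := by ring
    rw [h, F4_add_self]
  have hsx : form s x = 0 := by
    rw [hF, form_self, hpx, hp'x, form_comm y x, ← he, hbe]
    have h : form s₀ x + (al * 0 + ((form s₀ x + dl * e) * 1 + (ga * 0 + dl * e))) =
        (form s₀ x + form s₀ x) + (dl * e + dl * e) := by ring
    rw [h, F4_add_self, F4_add_self, add_zero]
  have hsy : form s y = 0 := by
    rw [hF, form_self, hpy, hp'y, ← he, hal]
    have h : form s₀ y + ((form s₀ y + ga * e) * 1 + (be * 0 + (ga * e + dl * 0))) =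
        (form s₀ y + form s₀ y) + (ga * e + ga * e) := by ring
    rw [h, F4_add_self, F4_add_self, add_zero]
  have hrs : form r s = 1 := by
    rw [form_comm, hF, form_comm s₀ r, hs₀, form_comm p r, hrp, form_comm p' r, hrp', form_comm x r, hrx,
      form_comm y r, hry]
    ring
  have key : ∀ {z : Vec}, form z p = 0 → form z p' = 0 → form z x = 0 → form z y = 0 →
      form z r = 0 → form z s = 0 → z = 0 := fun h1 h2 h3 h4 h5 h6 =>
    eq_zero_of_six hpp hpx hpy hp'x hp'y hrp hrp' hrx hry hsp hsp' hsx hsy hrs h1 h2 h3 h4 h5 h6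
  -- `r` and `s` are eigenvectors
  have tr : act t r = form (act t r) s • r := by
    have h : act t r + form (act t r) s • r = 0 := by
      apply key
      · rw [form_add_left, form_smul_left, hrp, adj, tp, hrp]; ring
      · rw [form_add_left, form_smul_left, hrp', adj, tp', hrp']; ring
      · rw [form_add_left, form_smul_left, hrx, adj, tx, form_add_right, hrp, hrx]; ring
      · rw [form_add_left, form_smul_left, hry, adj, ty, form_add_right, hrp', hry]; ring
      · rw [form_add_left, form_smul_left, form_self, form_comm, hq]; ring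
      · rw [form_add_left, form_smul_left, hrs, mul_one, F4_add_self]
    funext i
    exact F4_eq_of_add (congrFun h i)
  have ts : act t s = form (act t s) r • s := by
    have h : act t s + form (act t s) r • s = 0 := by
      apply key
      · rw [form_add_left, form_smul_left, hsp, adj, tp, hsp]; ring
      · rw [form_add_left, form_smul_left, hsp', adj, tp', hsp']; ring
      · rw [form_add_left, form_smul_left, hsx, adj, tx, form_add_right, hsp, hsx]; ring
      · rw [form_add_left, form_smul_left, hsy, adj, ty, form_add_right, hsp', hsy]; ring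
      · rw [form_add_left, form_smul_left, form_comm s r, hrs, mul_one, F4_add_self]
      · rw [form_add_left, form_smul_left, form_self, form_comm, hq]; ring
    funext i
    exact F4_eq_of_add (congrFun h i)
  have one_of : ∀ {c : F4} {z : Vec}, z ≠ 0 → act t z = c • z → c = 1 := by
    intro c z hz h
    have h1 := tt z
    rw [h, act_smul, h, smul_smul] at h1
    apply F4_sq_one
    by_contra hc
    apply hz
    funext i
    have h2 := congrFun h1 i
    rw [Pi.smul_apply, smul_eq_mul] at h2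
    have h3 : ∀ a b : F4, a ≠ 1 → a * b = b → b = 0 := by decide
    exact h3 _ _ hc h2
  have hs0 : s ≠ 0 := by
    rintro rfl
    rw [form_zero_right] at hrs
    exact absurd hrs (by decide)
  refine ⟨r, s, ?_, ?_, hrs⟩
  · have h := one_of hr0 tr
    rw [h, one_smul] at tr
    exact tr
  · have h := one_of hs0 ts
    rw [h, one_smul] at ts
    exact ts

/-- an involution with `(x, t x) = 0` for all `x` is conjugate into `Al` -/
theorem conj_Al {t : GL6} (ht : t ∈ L) (htt : t * t = 1) (hq : ∀ x, form x (act t x) = 0) :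
    ∃ g ∈ L, g * t * g⁻¹ ∈ Al := by
  by_cases ht1 : t = 1
  · exact ⟨1, L.one_mem, by rw [ht1]; simp⟩
  obtain ⟨r, s, hr, hs, hrs⟩ := exists_pair ht htt ht1 hq
  obtain ⟨g, hg, h0, h1⟩ := trans_pair hrs
  refine ⟨g⁻¹, L.inv_mem hg, ?_⟩
  rw [inv_inv]
  refine mem_Al_iff.2 ⟨⟨L.mul_mem (L.mul_mem (L.inv_mem hg) ht) hg, ?_⟩, ?_⟩
  · rw [act_mul, act_mul, h0, hr, ← h0, act_inv_act]
  · rw [act_mul, act_mul, h1, hs, ← h1, act_inv_act]

theorem q_add {t : GL6} (ht : t ∈ L) (htt : t * t = 1) (x y : Vec) :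
    form (x + y) (act t (x + y)) = form x (act t x) + form y (act t y) := by
  have adj : form y (act t x) = form x (act t y) := by
    rw [form_comm, ← form_act ht (act t x) y, ← act_mul, htt, act_one]
  rw [act_add, form_add_left, form_add_right, form_add_right, adj]
  have h : form x (act t x) + form x (act t y) + (form x (act t y) + form y (act t y)) =
      form x (act t x) + form y (act t y) + (form x (act t y) + form x (act t y)) := by ring
  rw [h, F4_add_self, add_zero]

/-- it is enough to know the quadratic form on a basis -/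
theorem q_of_basis {t : GL6} (ht : t ∈ L) (htt : t * t = 1)
    (h : ∀ i < 6, form (dec (4 ^ i)) (act t (dec (4 ^ i))) = 0) (x : Vec) :
    form x (act t x) = 0 := by
  have hs : ∀ (c : F4) (y : Vec), form y (act t y) = 0 → form (c • y) (act t (c • y)) = 0 := by
    intro c y hy
    rw [act_smul, form_smul_left, form_smul_right, hy]; ring
  have hx : x = ∑ i : Fin 6, x i • dec (4 ^ (i : ℕ)) := by
    have hd : ∀ i : Fin 6, dec (4 ^ (i : ℕ)) = Pi.single i 1 := by
      intro i
      have e : (4 : ℕ) ^ (i : ℕ) = 2 ^ (2 * (i : ℕ)) := by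
        rw [pow_mul]; norm_num
      rw [e, dec_even]
    funext j
    rw [Finset.sum_apply, Finset.sum_eq_single j]
    · rw [hd, Pi.smul_apply, Pi.single_eq_same, smul_eq_mul, mul_one]
    · intro i _ hi
      rw [hd, Pi.smul_apply, Pi.single_eq_of_ne (Ne.symm hi), smul_zero]
    · intro h; exact absurd (Finset.mem_univ _) h
  rw [hx]
  have key : ∀ S : Finset (Fin 6), form (∑ i ∈ S, x i • dec (4 ^ (i : ℕ)))
      (act t (∑ i ∈ S, x i • dec (4 ^ (i : ℕ)))) = 0 := by
    intro S
    induction S using Finset.induction_on with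
    | empty => rw [Finset.sum_empty, form_zero_left]
    | insert i S hi ih =>
      rw [Finset.sum_insert hi, q_add ht htt, ih, hs _ _ (h i i.isLt), add_zero]
  exact key _

/-! ### The second class -/

/-- the involution of `As` exchanging `e0` and `e1` -/
def sE : GL6 := ev [(2, 0), (9, 0), (2, 0)]

theorem sE_mem : sE ∈ As := ev_mem_As (by decide)

theorem s_check : app (cw [(2, 0), (9, 0), (2, 0)]) 1 = 1024 ∧ app (cw [(2, 0), (9, 0), (2, 0)]) 1024 = 1 := by
  decide +kernel

theorem act_s0 : act sE e0 = e1 := ((isCode_ev _).app_eq_iff (by norm_num) (by norm_num)).2 s_check.1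
theorem act_s1 : act sE e1 = e0 := ((isCode_ev _).app_eq_iff (by norm_num) (by norm_num)).2 s_check.2

/-- involutions of `L` are conjugate into `Al` or to an element `s a` -/
theorem dichotomy {t : GL6} (ht : t ∈ L) (htt : t * t = 1) :
    (∃ g ∈ L, g * t * g⁻¹ ∈ Al) ∨ ∃ g ∈ L, ∃ a ∈ Al, g * t * g⁻¹ = sE * a := by
  by_cases hq : ∀ x, form x (act t x) = 0
  · exact Or.inl (conj_Al ht htt hq)
  right
  push Not at hq
  obtain ⟨x₀, hx₀⟩ := hq
  obtain ⟨x, hx⟩ : ∃ x, form x (act t x) = 1 := by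
    have h : ∀ a : F4, a ≠ 0 → ∃ c : F4, c * (c * a) = 1 := by decide
    obtain ⟨c, hc⟩ := h _ hx₀
    exact ⟨c • x₀, by rw [act_smul, form_smul_left, form_smul_right, hc]⟩
  obtain ⟨g, hg, h0, h1⟩ := trans_pair hx
  refine ⟨g⁻¹, L.inv_mem hg, sE⁻¹ * (g⁻¹ * t * g), ?_, ?_⟩
  · refine mem_Al_iff.2 ⟨⟨L.mul_mem (L.inv_mem (As_le sE_mem))
      (L.mul_mem (L.mul_mem (L.inv_mem hg) ht) hg), ?_⟩, ?_⟩
    · rw [act_mul, act_mul, act_mul, h0, ← h1, act_inv_act, ← act_s0, act_inv_act]
    · rw [act_mul, act_mul, act_mul, h1, ← act_mul t t, htt, act_one, ← h0, act_inv_act, ← act_s1, act_inv_act]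
  · rw [inv_inv, mul_inv_cancel_left]

/-! ### Involutions in the two `A₅` -/

def invOk (T : List (List ℕ × List ℕ)) (W : List ℕ) : Bool :=
  T.all fun y => eqC y.1 idC || !(eqC (mulC y.1 y.1) idC) ||
    (T.any fun q => eqC (mulC q.1 (mulC y.1 q.2)) W)

theorem invOk_Al : invOk ALT (xc 6 0) = true := by decide +kernel
theorem invOk_As : invOk AST (xc 9 0) = true := by decide +kernel

theorem inv_aux (H : Subgroup GL6) (T : List (List ℕ × List ℕ)) (z : GL6) (W : List ℕ)
    (hW : IsCode (z : Mat) W) (hcod : ∀ g ∈ H, ∃ e ∈ T, Cod g e) (helt : ∀ e ∈ T, ∃ g ∈ H, Cod g e)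
    (h1 : invOk T W = true) {a : GL6} (ha : a ∈ H) (haa : a * a = 1) (ha1 : a ≠ 1) :
    ∃ c ∈ H, c * a * c⁻¹ = z := by
  obtain ⟨e, he, hae⟩ := hcod a ha
  have c := List.all_eq_true.1 h1 e he
  rw [Bool.or_eq_true, Bool.or_eq_true, eqC_iff, Bool.not_eq_true'] at c
  rcases c with (c | c) | c
  · exact absurd ((eq_one_iff hae.1).2 c) ha1
  · exfalso
    have h4 := (eq_one_iff (isCode_mul' hae.1 hae.1)).1 haa
    rw [h4] at c
    exact absurd c (by decide)
  · obtain ⟨q, hq, c⟩ := List.any_eq_true.1 c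
    obtain ⟨g, hg, hgq⟩ := helt q hq
    refine ⟨g, hg, ?_⟩
    rw [eqC_iff] at c
    have hcode : IsCode ((g * (a * g⁻¹) : GL6) : Mat) W := by
      rw [← c]
      exact isCode_mul' hgq.1 (isCode_mul' hae.1 hgq.2)
    rw [mul_assoc]
    exact Units.ext (hcode.mat_eq hW)

theorem inv_conj_Al {a : GL6} (ha : a ∈ Al) (haa : a * a = 1) (ha1 : a ≠ 1) :
    ∃ c ∈ Al, c * a * c⁻¹ = zE :=
  inv_aux Al ALT zE (xc 6 0) (isCode_gx 6 0) (fun _ h => exists_cod_Al h)
    (fun _ h => exists_elt_Al h) invOk_Al ha haa ha1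

theorem inv_conj_As {a : GL6} (ha : a ∈ As) (haa : a * a = 1) (ha1 : a ≠ 1) :
    ∃ c ∈ As, c * a * c⁻¹ = vE :=
  inv_aux As AST vE (xc 9 0) (isCode_gx 9 0) (fun _ h => exists_cod_As h)
    (fun _ h => exists_elt_As h) invOk_As ha haa ha1

theorem sE_sq : sE * sE = 1 := by
  rw [sE, ← ev_append]
  exact ev_eq_one_of (by decide +kernel)

theorem sz_check : cw ([(8, 0), (4, 0)] ++ [(2, 0), (9, 0), (2, 0), (6, 0)] ++ [(4, 0), (8, 0)]) =
    cw [(2, 0), (9, 0), (2, 0)] := by decide +kernel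

theorem sz_conj : ∃ g ∈ L, g * (sE * zE) * g⁻¹ = sE := by
  refine ⟨ev [(8, 0), (4, 0)], ev_mem _, ?_⟩
  have h := ev_eq_of sz_check
  rw [ev_append, ev_append] at h
  have h1 : (ev [(8, 0), (4, 0)])⁻¹ = ev [(4, 0), (8, 0)] := (ev_reverse [(8, 0), (4, 0)]).symm
  have h2 : sE * zE = ev [(2, 0), (9, 0), (2, 0), (6, 0)] := by
    have h3 : zE = ev [(6, 0)] := (ev_singleton (6, 0)).symm
    rw [h3, sE, ← ev_append]; rfl
  rw [h1, h2]
  exact h

/-- (F4) every involution of `L` is conjugate to `z` or to `v` -/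
theorem conj_z_or_v {t : GL6} (ht : t ∈ L) (htt : t * t = 1) (ht1 : t ≠ 1) :
    (∃ g ∈ L, g * t * g⁻¹ = zE) ∨ ∃ g ∈ L, g * t * g⁻¹ = vE := by
  rcases dichotomy ht htt with ⟨g, hg, h⟩ | ⟨g, hg, a, ha, h⟩
  · left
    obtain ⟨c, hc, hcz⟩ := inv_conj_Al h (by
      have : g * t * g⁻¹ * (g * t * g⁻¹) = g * (t * t) * g⁻¹ := by group
      rw [this, htt]; group) (fun h => ht1 (by
        have h2 : t = g⁻¹ * (g * t * g⁻¹) * g := by group
        rw [h2, h]; group))
    exact ⟨c * g, L.mul_mem (Al_le hc) hg, by rw [← hcz]; group⟩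
  · right
    have hcomm : a * sE = sE * a := comm_Al_As ha sE_mem
    have haa : a * a = 1 := by
      have h1 : g * t * g⁻¹ * (g * t * g⁻¹) = g * (t * t) * g⁻¹ := by group
      rw [htt, h] at h1
      have h2 : sE * a * (sE * a) = (sE * sE) * (a * a) := by
        rw [mul_assoc, ← mul_assoc a, hcomm]; group
      rw [h2, sE_sq, one_mul] at h1
      rw [h1]; group
    -- conjugate to `sE`
    obtain ⟨k, hk, hks⟩ : ∃ k ∈ L, k * (sE * a) * k⁻¹ = sE := by
      by_cases ha1 : a = 1
      · exact ⟨1, L.one_mem, by rw [ha1]; group⟩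
      · obtain ⟨c, hc, hcz⟩ := inv_conj_Al ha haa ha1
        obtain ⟨d, hd, hdz⟩ := sz_conj
        refine ⟨d * c, L.mul_mem hd (Al_le hc), ?_⟩
        have h1 : c * sE = sE * c := comm_Al_As hc sE_mem
        have h2 : c * (sE * a) * c⁻¹ = sE * zE := by
          rw [← hcz, ← mul_assoc c, h1]; group
        calc d * c * (sE * a) * (d * c)⁻¹ = d * (c * (sE * a) * c⁻¹) * d⁻¹ := by group
          _ = sE := by rw [h2, hdz]
    obtain ⟨c, hc, hcv⟩ := inv_conj_As sE_mem sE_sq (fun h => by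
      have := act_s0
      rw [h, act_one] at this
      exact absurd this (by decide +kernel))
    refine ⟨c * k * g, L.mul_mem (L.mul_mem (As_le hc) hk) hg, ?_⟩
    calc c * k * g * t * (c * k * g)⁻¹ = c * (k * (g * t * g⁻¹) * k⁻¹) * c⁻¹ := by group
      _ = vE := by rw [h, hks, hcv]

end Cfsg.Agent.StdG24.Cls6
end
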